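import Groth.Agent.CAlgH.KrullAkizukiLength
import Mathlib

/-! Noetherian local domains are dominated by discrete valuation rings. -/

universe u

namespace Groth.Agent.DVRDom

open IsLocalRing

/-- The integral closure of a one-dimensional noetherian domain is noetherian (Krull–Akizuki). -/
theorem isNoetherianRing_integralClosure (T : Type u) [CommRing T] [IsDomain T] [IsNoetherianRing T]
    [Ring.KrullDimLE 1 T] (K : Type u) [Field K] [Algebra T K] [IsFractionRing T K] :
    IsNoetherianRing (integralClosure T K) := by
  refine (isNoetherianRing_iff_ideal_fg _).mpr fun I => ?_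
  rcases eq_or_ne I ⊥ with rfl | hI
  · exact Submodule.fg_bot
  obtain ⟨x, hxI, hx0⟩ := Submodule.exists_mem_ne_zero_of_ne_bot
    (Ideal.IsIntegral.comap_ne_bot T hI : I.comap (algebraMap T (integralClosure T K)) ≠ ⊥)
  let W := integralClosure T K
  let φ : W →ₗ[T] (Fin 1 → K) := LinearMap.pi fun _ => (Subalgebra.val W).toLinearMap
  have hφ : Function.Injective φ := fun a b hab => Subtype.ext (congrFun hab 0)
  have hfin := Groth.Agent.CAlgH.length_quot_ne_top (K := K) (r := 1) hx0 W φ hφ
  let xW : Submodule T W := Ideal.span {x} • ⊤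
  have hxW : ∀ w : W, w ∈ xW ↔ ∃ v : W, w = algebraMap T W x * v := by
    intro w
    simp only [xW, Submodule.ideal_span_singleton_smul]
    rw [Submodule.mem_smul_pointwise_iff_exists]
    simp only [Submodule.mem_top, true_and, Algebra.smul_def, eq_comm]
  have : IsNoetherian T (W ⧸ xW) := by
    have h := (Module.length_ne_top_iff (R := T) (M := W ⧸ xW)).mp hfin
    exact (isFiniteLength_iff_isNoetherian_isArtinian.mp h).1
  let IT : Submodule T W := I.restrictScalars T
  have hfg : (IT.map xW.mkQ).FG := IsNoetherian.noetherian _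
  obtain ⟨s, hs⟩ := hfg
  classical
  have hsI : ∀ q ∈ s, ∃ w ∈ I, xW.mkQ w = q := fun q hq => by
    have : q ∈ IT.map xW.mkQ := hs ▸ Submodule.subset_span hq
    obtain ⟨w, hw, rfl⟩ := this
    exact ⟨w, hw, rfl⟩
  choose g hg hgq using hsI
  refine ⟨insert (algebraMap T W x) (s.attach.image fun q => g q.1 q.2), le_antisymm ?_ fun w hw => ?_⟩
  · rw [Submodule.span_le]
    intro z hz
    simp only [Finset.coe_insert, Finset.coe_image, Set.mem_insert_iff, Set.mem_image] at hz
    rcases hz with rfl | ⟨q, -, rfl⟩
    · exact hxI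
    · exact hg _ _
  · set G := insert (algebraMap T W x) (s.attach.image fun q => g q.1 q.2)
    let J : Ideal W := Ideal.span (G : Set W)
    change w ∈ J
    have hq : xW.mkQ w ∈ (J.restrictScalars T).map xW.mkQ := by
      have hmem : xW.mkQ w ∈ Submodule.span T (s : Set (W ⧸ xW)) := hs ▸ ⟨w, hw, rfl⟩
      refine (Submodule.span_le (p := (J.restrictScalars T).map xW.mkQ)).mpr (fun q hq => ⟨g q hq, Ideal.subset_span ?_, hgq q hq⟩) hmem
      exact Finset.mem_insert_of_mem (Finset.mem_image.mpr ⟨⟨q, hq⟩, Finset.mem_attach _ _, rfl⟩)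
    obtain ⟨j, hj, hjw⟩ := hq
    obtain ⟨v, hv⟩ := (hxW _).mp ((Submodule.Quotient.eq xW).mp hjw)
    have hw' : w = j - algebraMap T W x * v := by rw [← hv]; abel
    rw [hw']
    exact J.sub_mem hj (J.mul_mem_right v (Ideal.subset_span (Finset.mem_insert_self _ _)))

/-- A one-dimensional noetherian local domain is dominated by a discrete valuation ring. -/
theorem exists_dvr_of_dim_one (T : Type u) [CommRing T] [IsDomain T] [IsNoetherianRing T] [IsLocalRing T]
    [Ring.KrullDimLE 1 T] (hT : ¬ IsField T) :
    ∃ (R : Type u) (_ : CommRing R) (_ : IsDomain R) (_ : IsDiscreteValuationRing R) (f : T →+* R),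
      Function.Injective f ∧ IsLocalHom f := by
  let K := FractionRing T
  let W := integralClosure T K
  have := isNoetherianRing_integralClosure T K
  have : Algebra.IsIntegral T W := integralClosure.AlgebraIsIntegral
  have hinj : Function.Injective (algebraMap T W) := fun a b h =>
    IsFractionRing.injective T K (congrArg Subtype.val h)
  have : IsIntegrallyClosed W := integralClosure.isIntegrallyClosedOfFiniteExtension K
  have : Ring.DimensionLEOne W := by
    have : Ring.DimensionLEOne T := ⟨fun {p} hp0 hp => by
      rcases Ring.krullDimLE_one_iff.mp inferInstance p hp with h | h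
      · rw [IsDomain.minimalPrimes_eq_singleton_bot, Set.mem_singleton_iff] at h
        exact absurd h hp0
      · exact h⟩
    infer_instance
  have : IsDedekindDomain W := { }
  have : FaithfulSMul T W := (faithfulSMul_iff_algebraMap_injective T W).mpr hinj
  obtain ⟨Q, hQ, hQm⟩ := Ideal.exists_ideal_over_maximal_of_isIntegral (S := W) (maximalIdeal T)
    (by rw [(RingHom.injective_iff_ker_eq_bot _).mp hinj]; exact bot_le)
  have hQ0 : Q ≠ ⊥ := fun h => by
    rw [h, ← RingHom.ker_eq_comap_bot, (RingHom.injective_iff_ker_eq_bot _).mp hinj] at hQm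
    exact hT (IsLocalRing.isField_iff_maximalIdeal_eq.mpr hQm.symm)
  have := hQ.isPrime
  let R := Localization.AtPrime Q
  have : IsDiscreteValuationRing R := IsLocalization.AtPrime.isDiscreteValuationRing_of_dedekind_domain W hQ0 R
  refine ⟨R, inferInstance, inferInstance, inferInstance, (algebraMap W R).comp (algebraMap T W), ?_, ⟨fun t ht => ?_⟩⟩
  · exact (IsLocalization.injective R Q.primeCompl_le_nonZeroDivisors).comp hinj
  · by_contra hnu
    have hm : algebraMap T W t ∈ Q := by
      have : t ∈ maximalIdeal T := hnu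
      rwa [← hQm] at this
    exact (IsLocalization.AtPrime.to_map_mem_maximal_iff R Q (algebraMap T W t)).mpr hm ht

/-- A noetherian local domain that is not a field is dominated by a discrete valuation ring. -/
theorem exists_dvr (A : Type u) [CommRing A] [IsDomain A] [IsNoetherianRing A] [IsLocalRing A] (hA : ¬ IsField A) :
    ∃ (R : Type u) (_ : CommRing R) (_ : IsDomain R) (_ : IsDiscreteValuationRing R) (f : A →+* R),
      Function.Injective f ∧ IsLocalHom f := by
  classical
  let K := FractionRing A
  have hAK := IsFractionRing.injective A K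
  -- a valuation ring dominating `A`
  obtain ⟨V, hV⟩ := (LocalSubring.range (algebraMap A K)).exists_le_valuationSubring
  have hVA : ∀ x : A, algebraMap A K x ∈ V := fun x => hV.1 ⟨x, rfl⟩
  have hVm : ∀ x ∈ maximalIdeal A, V.valuation (algebraMap A K x) < 1 := by
    intro x hx
    by_contra hc
    have h1 : V.valuation (algebraMap A K x) = 1 :=
      le_antisymm ((V.valuation_le_one_iff _).mpr (hVA x)) (not_lt.mp hc)
    have hu : IsUnit (⟨algebraMap A K x, hVA x⟩ : V) := (V.valuation_eq_one_iff ⟨algebraMap A K x, hVA x⟩).mpr h1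
    have h2 : IsUnit (⟨algebraMap A K x, ⟨x, rfl⟩⟩ : (algebraMap A K).range) := hV.2.1 _ hu
    obtain ⟨⟨_, y, rfl⟩, hy⟩ := isUnit_iff_exists_inv.mp h2
    refine (mem_maximalIdeal x).mp hx (isUnit_iff_exists_inv.mpr ⟨y, hAK ?_⟩)
    rw [map_mul, map_one]; exact congrArg Subtype.val hy
  -- the generator of largest value
  obtain ⟨s, hs⟩ := IsNoetherian.noetherian (maximalIdeal A)
  have hsne : s.Nonempty := by
    rw [Finset.nonempty_iff_ne_empty]
    intro he
    rw [he, Finset.coe_empty, Submodule.span_empty] at hs
    exact hA (IsLocalRing.isField_iff_maximalIdeal_eq.mpr hs.symm)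
  obtain ⟨a, has, hmax⟩ := s.exists_max_image (fun b => V.valuation (algebraMap A K b)) hsne
  have ham : a ∈ maximalIdeal A := hs ▸ Submodule.subset_span has
  have ha0 : algebraMap A K a ≠ 0 := by
    intro h0
    apply hA
    refine IsLocalRing.isField_iff_maximalIdeal_eq.mpr (eq_bot_iff.mpr (hs ▸ Submodule.span_le.mpr fun b hb => ?_))
    have := hmax b hb
    rw [h0, map_zero, le_zero_iff, map_eq_zero] at this
    exact hAK (by rw [this, map_zero])
  -- the affine chart of the blow-up
  let S := Algebra.adjoin A ((s.image fun b => algebraMap A K b / algebraMap A K a : Finset K) : Set K)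
  have hSV : ∀ z : K, z ∈ S → z ∈ V := by
    intro z hz
    induction hz using Algebra.adjoin_induction with
    | mem z hz =>
      obtain ⟨b, hb, rfl⟩ := Finset.mem_image.mp (Finset.mem_coe.mp hz)
      rw [← V.valuation_le_one_iff, map_div₀]
      exact div_le_one_of_le₀ (hmax b hb) zero_le
    | algebraMap r => exact hVA r
    | add x y _ _ hx hy => exact add_mem hx hy
    | mul x y _ _ hx hy => exact mul_mem hx hy
  have : Algebra.FiniteType A S := (Subalgebra.fg_iff_finiteType S).mp (Subalgebra.fg_adjoin_finset _)
  have : IsNoetherianRing S := Algebra.FiniteType.isNoetherianRing A S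
  set a' : S := algebraMap A S a with ha'
  have hinjS : Function.Injective (algebraMap A S) := fun x y h => hAK (congrArg Subtype.val h)
  have hnu : Ideal.span {a'} ≠ ⊤ := by
    rw [Ne, Ideal.span_singleton_eq_top, isUnit_iff_exists_inv]
    rintro ⟨c, hc⟩
    have h1 : algebraMap A K a * (c : K) = 1 := congrArg Subtype.val hc
    have h2 : V.valuation (algebraMap A K a) * V.valuation (c : K) = 1 := by rw [← map_mul, h1, map_one]
    have h3 := hVm a ham
    have h4 : V.valuation (c : K) ≤ 1 := (V.valuation_le_one_iff _).mpr (hSV _ c.2)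
    exact absurd h2 (ne_of_lt (lt_of_le_of_lt (mul_le_of_le_one_right' h4) h3))
  obtain ⟨P, hP⟩ := Ideal.nonempty_minimalPrimes hnu
  have := hP.1.1
  have hh : P.height ≤ 1 := Ideal.height_le_one_of_isPrincipal_of_mem_minimalPrimes _ P hP
  have haP : a' ∈ P := hP.1.2 (Ideal.mem_span_singleton_self a')
  let T := Localization.AtPrime P
  have hdim : Ring.KrullDimLE 1 T := by
    rw [Ring.krullDimLE_iff, IsLocalization.AtPrime.ringKrullDim_eq_height P T]
    exact_mod_cast hh
  have hST : Function.Injective (algebraMap S T) := IsLocalization.injective T P.primeCompl_le_nonZeroDivisors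
  have hTF : ¬ IsField T := by
    intro hf
    rw [IsLocalRing.isField_iff_maximalIdeal_eq] at hf
    have h1 : algebraMap S T a' ∈ maximalIdeal T := (IsLocalization.AtPrime.to_map_mem_maximal_iff T P a').mpr haP
    rw [hf, Submodule.mem_bot] at h1
    exact ha0 (congrArg Subtype.val ((map_eq_zero_iff _ hST).mp h1))
  obtain ⟨R, _, _, _, f, hf, hfl⟩ := exists_dvr_of_dim_one T hTF
  refine ⟨R, inferInstance, inferInstance, inferInstance, f.comp ((algebraMap S T).comp (algebraMap A S)),
    hf.comp (hST.comp hinjS), ⟨fun x hx => ?_⟩⟩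
  by_contra hxu
  have hxP : algebraMap A S x ∈ P := by
    have hxm : x ∈ Submodule.span A (s : Set A) := hs ▸ hxu
    clear hx hxu
    induction hxm using Submodule.span_induction with
    | mem b hb =>
      have : algebraMap A S b = a' * ⟨algebraMap A K b / algebraMap A K a, Algebra.subset_adjoin
          (Finset.mem_coe.mpr (Finset.mem_image_of_mem _ hb))⟩ := Subtype.ext (mul_div_cancel₀ _ ha0).symm
      rw [this]; exact P.mul_mem_right _ haP
    | zero => simp
    | add x y _ _ hx hy => rw [map_add]; exact P.add_mem hx hy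
    | smul c x _ hx => rw [smul_eq_mul, map_mul]; exact P.mul_mem_left _ hx
  exact (IsLocalization.AtPrime.to_map_mem_maximal_iff T P _).mpr hxP (hfl.map_nonunit _ hx)

end Groth.Agent.DVRDom
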