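import Groth.Agent.DVRDom.Basic
import Groth.Agent.H8ProCons.ConsTopology
import Mathlib

/-! Points of schemes valued in discrete valuation rings, specializations and closures. -/

universe u

open CategoryTheory AlgebraicGeometry

namespace Groth.Agent.DVRDom

/-- A local homomorphism out of a local ring at `x` sends the closed point to `x`. -/
theorem closedPoint_spec_comp {X : Scheme.{u}} {x : X} {R : Type u} [CommRing R] [IsLocalRing R]
    (f : X.presheaf.stalk x ⟶ CommRingCat.of R) [IsLocalHom f.hom] :
    (Spec.map f ≫ X.fromSpecStalk x) (IsLocalRing.closedPoint R) = x := by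
  rw [Scheme.Hom.comp_apply, show (Spec.map f) (IsLocalRing.closedPoint R) = IsLocalRing.closedPoint _ from
    Spec_closedPoint (f := f), Scheme.fromSpecStalk_closedPoint]

/-- The point of `Spec K` for a field `K` hit under a composite with `Spec` of a map to `K`. -/
theorem spec_field_apply {A : CommRingCat.{u}} {K : Type u} [Field K] (g : A ⟶ CommRingCat.of K)
    (z : Spec (CommRingCat.of K)) : ((Spec.map g) z).asIdeal = RingHom.ker g.hom := by
  have : z.asIdeal = ⊥ := (Ideal.eq_bot_or_top z.asIdeal).resolve_right z.isPrime.ne_top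
  change z.asIdeal.comap g.hom = _
  rw [this]; rfl

/-- A proper generization is realised by a discrete valuation ring. -/
theorem exists_dvr_point {X : Scheme.{u}} [IsLocallyNoetherian X] {u₀ x : X} (hsp : u₀ ⤳ x) (hne : u₀ ≠ x) :
    ∃ (R : Type u) (_ : CommRing R) (_ : IsDomain R) (_ : IsDiscreteValuationRing R)
      (m : Spec (CommRingCat.of R) ⟶ X), m (IsLocalRing.closedPoint R) = x ∧
      ∀ z, (Spec.map (CommRingCat.ofHom (algebraMap R (FractionRing R))) ≫ m) z = u₀ := by
  obtain ⟨p, hp⟩ : u₀ ∈ Set.range (X.fromSpecStalk x) := by rw [Scheme.range_fromSpecStalk]; exact hsp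
  let A := X.presheaf.stalk x ⧸ p.asIdeal
  have := p.isPrime
  have : IsNoetherianRing A := inferInstance
  have : IsLocalRing A := IsLocalRing.of_surjective' (Ideal.Quotient.mk p.asIdeal) Ideal.Quotient.mk_surjective
  have hA : ¬ IsField A := fun hf => by
    have hmax : p.asIdeal.IsMaximal := Ideal.Quotient.maximal_of_isField _ hf
    have : p = IsLocalRing.closedPoint _ := PrimeSpectrum.ext (IsLocalRing.eq_maximalIdeal hmax)
    apply hne
    rw [← hp, this, Scheme.fromSpecStalk_closedPoint]
  obtain ⟨R, _, _, _, f, hf, hfl⟩ := exists_dvr A hA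
  have : IsLocalHom (Ideal.Quotient.mk p.asIdeal) := IsLocalHom.of_surjective _ Ideal.Quotient.mk_surjective
  let φ : X.presheaf.stalk x ⟶ CommRingCat.of R := CommRingCat.ofHom (f.comp (Ideal.Quotient.mk p.asIdeal))
  have : IsLocalHom φ.hom := inferInstanceAs (IsLocalHom (f.comp (Ideal.Quotient.mk p.asIdeal)))
  refine ⟨R, inferInstance, inferInstance, inferInstance, Spec.map φ ≫ X.fromSpecStalk x, closedPoint_spec_comp φ, fun z => ?_⟩
  rw [← Category.assoc, ← Spec.map_comp, Scheme.Hom.comp_apply, ← hp]
  congr 1
  refine PrimeSpectrum.ext ((spec_field_apply _ z).trans ?_)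
  ext a
  rw [RingHom.mem_ker]
  change algebraMap R (FractionRing R) (f (Ideal.Quotient.mk p.asIdeal a)) = 0 ↔ _
  rw [map_eq_zero_iff _ (IsFractionRing.injective R _), map_eq_zero_iff _ hf, Ideal.Quotient.eq_zero_iff_mem]

/-- In a noetherian space a point in the closure of an intersection of an open and a closed set is a
specialization of a point of that set. -/
theorem exists_specializes_of_mem_closure_locClosed {T : Type*} [TopologicalSpace T] [TopologicalSpace.NoetherianSpace T]
    [QuasiSober T] [PrespectralSpace T] {A B : Set T} (hA : IsOpen A) (hB : IsOpen B) {x : T}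
    (hx : x ∈ closure (A \ B)) : ∃ y ∈ A \ B, y ⤳ x := by
  have : QuasiSeparatedSpace T := ⟨fun _ _ _ _ _ _ => TopologicalSpace.NoetherianSpace.isCompact _⟩
  refine H8ProCons.exists_specializes_of_mem_closure (H8ProCons.isClosed_cons_of_isConstructible ?_) hx
  have hc : ∀ {O : Set T}, IsOpen O → Topology.IsConstructible O := fun hO =>
    (IsRetrocompact.isConstructible hO (fun _ _ _ => TopologicalSpace.NoetherianSpace.isCompact _))
  exact (hc hA).sdiff (hc hB)

end Groth.Agent.DVRDom
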