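import Groth.Agent.DVRDom.Extend
import Mathlib

/-! Extending a section of a morphism locally of finite type to a normal point. -/

universe u

open CategoryTheory CategoryTheory.Limits AlgebraicGeometry

namespace Groth.Agent.DVRDom

theorem spec_map_eq_iff {X : Scheme.{u}} {x : X} {R : CommRingCat.{u}} (f g : X.presheaf.stalk x ⟶ R)
    (h : Spec.map f ≫ X.fromSpecStalk x = Spec.map g ≫ X.fromSpecStalk x) : f = g :=
  Spec.map_injective ((cancel_mono (X.fromSpecStalk x)).mp h)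

/-- A morphism from the spectrum of a local ring with closed point at `y` comes from a local map on the stalk at `y`. -/
theorem exists_stalk_hom {Y : Scheme.{u}} {R : Type u} [CommRing R] [IsLocalRing R]
    (m : Spec (CommRingCat.of R) ⟶ Y) {y : Y} (hy : m (IsLocalRing.closedPoint R) = y) :
    ∃ g : Y.presheaf.stalk y ⟶ CommRingCat.of R, IsLocalHom g.hom ∧ Spec.map g ≫ Y.fromSpecStalk y = m := by
  subst hy
  exact ⟨Scheme.stalkClosedPointTo m, Scheme.isLocalHom_stalkClosedPointTo' m, Scheme.Spec_stalkClosedPointTo_fromSpecStalk m⟩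

/-- EGA IV 20.4: the section extends to `x` with value `y₀` iff it does so along every discrete valuation ring. -/
theorem exists_extension {X Y : Scheme.{u}} [IsLocallyNoetherian X] (q : Y ⟶ X)
    [LocallyOfFiniteType q] (U : X.Opens) (hU : Dense (U : Set X)) (h : (U : Scheme.{u}) ⟶ Y)
    (hh : h ≫ q = U.ι) (x : X) (hxU : x ∉ U) [IsDomain ↑(X.presheaf.stalk x)]
    (hx : IsIntegrallyClosed ↑(X.presheaf.stalk x)) (y₀ : Y) (hy₀ : q y₀ = x)
    (H : ∀ (R : Type u) [CommRing R] [IsDomain R] [IsDiscreteValuationRing R]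
        (u : Spec (CommRingCat.of R) ⟶ X), u (IsLocalRing.closedPoint R) = x →
        ∀ ub : Spec (CommRingCat.of (FractionRing R)) ⟶ (U : Scheme.{u}),
          ub ≫ U.ι = Spec.map (CommRingCat.ofHom (algebraMap R (FractionRing R))) ≫ u →
          ∃ h₁ : Spec (CommRingCat.of R) ⟶ Y, h₁ ≫ q = u ∧ h₁ (IsLocalRing.closedPoint R) = y₀ ∧
            Spec.map (CommRingCat.ofHom (algebraMap R (FractionRing R))) ≫ h₁ = ub ≫ h) :
    ∃ (U' : X.Opens) (hUU' : U ≤ U') (hxU' : x ∈ U') (h' : (U' : Scheme.{u}) ⟶ Y),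
        h' ≫ q = U'.ι ∧ X.homOfLE hUU' ≫ h' = h ∧ h' ⟨x, hxU'⟩ = y₀ := by
  subst hy₀
  have hOK := IsFractionRing.injective (X.presheaf.stalk (q y₀)) (FractionRing (X.presheaf.stalk (q y₀)))
  let K := FractionRing (X.presheaf.stalk (q y₀))
  -- an integral affine neighbourhood
  obtain ⟨W, hxW, hW, hWinj⟩ : ∃ (W : X.Opens) (hxW : q y₀ ∈ W), IsAffineOpen W ∧
      Function.Injective (X.presheaf.germ W (q y₀) hxW) := X.exists_germ_injective (q y₀)
  have : IsDomain Γ(X, W) := hWinj.isDomain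
  have : IsIntegral (W : Scheme.{u}) := by
    have : IsDomain (CommRingCat.of Γ(X, W)) := ‹_›
    have : Nonempty (W : Scheme.{u}) := ⟨⟨q y₀, hxW⟩⟩
    exact isIntegral_of_isOpenImmersion hW.isoSpec.hom
  let η : Spec (CommRingCat.of K) ⟶ X :=
    Spec.map (CommRingCat.ofHom (algebraMap (X.presheaf.stalk (q y₀)) K)) ≫ X.fromSpecStalk (q y₀)
  have hηsp : ∀ z, η z ⤳ q y₀ := fun z => by
    have : η z ∈ Set.range (X.fromSpecStalk (q y₀)) := ⟨_, (Scheme.Hom.comp_apply _ _ z).symm⟩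
    rwa [Scheme.range_fromSpecStalk] at this
  let ηW : Spec (CommRingCat.of K) ⟶ (W : Scheme.{u}) :=
    Spec.map (CommRingCat.ofHom (algebraMap (X.presheaf.stalk (q y₀)) K)) ≫ W.fromSpecStalkOfMem (q y₀) hxW
  have hηW : ηW ≫ W.ι = η := by simp [ηW, η]
  have hηdom : DenseRange ηW := by
    have h2 : ηW ≫ hW.isoSpec.hom =
        Spec.map (X.presheaf.germ W (q y₀) hxW ≫ CommRingCat.ofHom (algebraMap (X.presheaf.stalk (q y₀)) K)) := by
      simp [ηW, IsAffineOpen.isoSpec_hom, Spec.map_comp]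
      rfl
    have h3 : DenseRange (ηW ≫ hW.isoSpec.hom) := by
      rw [h2]
      exact PrimeSpectrum.denseRange_comap_iff_ker_le_nilRadical _ |>.mpr (fun a ha => by
        have : a = 0 := hWinj (hOK ((RingHom.mem_ker.mp ha).trans (by simp)))
        rw [this]; exact Ideal.zero_mem _)
    have hc : Continuous (hW.isoSpec.inv) := hW.isoSpec.inv.continuous
    have hs : Function.Surjective (hW.isoSpec.inv) := hW.isoSpec.inv.surjective
    have h4 := hs.denseRange.comp h3 hc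
    have : (hW.isoSpec.inv : _ → _) ∘ (ηW ≫ hW.isoSpec.hom) = ηW := by
      funext z
      rw [Function.comp_apply, ← Scheme.Hom.comp_apply, Category.assoc, Iso.hom_inv_id, Category.comp_id]
    rwa [this] at h4
  have hηU : ∀ z, η z ∈ U := fun z => by
    have hUW : (W.ι ⁻¹ᵁ U : Set W).Nonempty := by
      obtain ⟨w, hwW, hwU⟩ := hU.inter_open_nonempty W W.isOpen ⟨q y₀, hxW⟩
      exact ⟨⟨w, hwW⟩, hwU⟩
    obtain ⟨z', hz'⟩ := hηdom.exists_mem_open (W.ι ⁻¹ᵁ U).isOpen hUW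
    have : z = z' := PrimeSpectrum.ext ((Ideal.eq_bot_or_top z.asIdeal).resolve_right z.isPrime.ne_top |>.trans
      ((Ideal.eq_bot_or_top z'.asIdeal).resolve_right z'.isPrime.ne_top).symm)
    rw [← hηW, this, Scheme.Hom.comp_apply]
    exact hz'
  let gK : Spec (CommRingCat.of K) ⟶ (U : Scheme.{u}) := IsOpenImmersion.lift U.ι η (by
    rintro _ ⟨z, rfl⟩; rw [Scheme.Opens.range_ι]; exact hηU z)
  have hgK : gK ≫ U.ι = η := IsOpenImmersion.lift_fac _ _ _
  let z₀ : Spec (CommRingCat.of K) := IsLocalRing.closedPoint K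
  have hne : η z₀ ≠ q y₀ := fun e => hxU (e ▸ hηU z₀)
  -- the value at the generic point specializes to `y₀`
  have hspec : ∀ w : (U : Scheme.{u}), w.1 ⤳ q y₀ → h w ⤳ y₀ := fun w hw => by
    have hwne : w.1 ≠ q y₀ := fun e => hxU (e ▸ w.2)
    obtain ⟨R, _, _, _, m, hmc, hmg⟩ := exists_dvr_point hw hwne
    let ub : Spec (CommRingCat.of (FractionRing R)) ⟶ (U : Scheme.{u}) :=
      IsOpenImmersion.lift U.ι (Spec.map (CommRingCat.ofHom (algebraMap R (FractionRing R))) ≫ m) (by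
        rintro _ ⟨z, rfl⟩; rw [Scheme.Opens.range_ι, hmg]; exact w.2)
    obtain ⟨h₁, -, hc, hg⟩ := H R m hmc ub (IsOpenImmersion.lift_fac _ _ _)
    let z : Spec (CommRingCat.of (FractionRing R)) := IsLocalRing.closedPoint (FractionRing R)
    have hub : ub z = w := Subtype.ext (by
      change U.ι (ub z) = w.1
      rw [← Scheme.Hom.comp_apply, IsOpenImmersion.lift_fac, hmg])
    rw [← hub, ← Scheme.Hom.comp_apply, ← hg, Scheme.Hom.comp_apply, ← hc]
    exact (IsLocalRing.specializes_closedPoint _).map h₁.continuous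
  let yη : Spec (CommRingCat.of K) ⟶ Y := gK ≫ h
  have hyη : yη z₀ ⤳ y₀ := by
    rw [Scheme.Hom.comp_apply]
    exact hspec _ (by
      change U.ι (gK z₀) ⤳ _
      rw [← Scheme.Hom.comp_apply, hgK]; exact hηsp _)
  let ψ : Y.presheaf.stalk y₀ ⟶ CommRingCat.of K :=
    Y.presheaf.stalkSpecializes hyη ≫ Scheme.stalkClosedPointTo yη
  have hψ : Spec.map ψ ≫ Y.fromSpecStalk y₀ = yη := by
    rw [Spec.map_comp, Category.assoc, Scheme.SpecMap_stalkSpecializes_fromSpecStalk,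
      Scheme.Spec_stalkClosedPointTo_fromSpecStalk]
  let π : X.presheaf.stalk (q y₀) ⟶ Y.presheaf.stalk y₀ := q.stalkMap y₀
  have hψπ : π ≫ ψ = CommRingCat.ofHom (algebraMap (X.presheaf.stalk (q y₀)) K) := spec_map_eq_iff _ _ (by
    rw [Spec.map_comp, Category.assoc, Scheme.SpecMap_stalkMap_fromSpecStalk, ← Category.assoc, hψ,
      Category.assoc, hh, hgK])
  -- DVR compatibility
  have hdvr : ∀ (R : Type u) [CommRing R] [IsDomain R] [IsDiscreteValuationRing R]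
      (f : X.presheaf.stalk (q y₀) →+* R), Function.Injective f → IsLocalHom f → ∀ F : K →+* FractionRing R,
      F.comp (algebraMap _ K) = (algebraMap R (FractionRing R)).comp f →
      ∃ g : Y.presheaf.stalk y₀ ⟶ CommRingCat.of R, IsLocalHom g.hom ∧
        ∀ b, algebraMap R (FractionRing R) (g.hom b) = F (ψ.hom b) := by
    intro R _ _ _ f _ hfl F hF
    have : IsLocalHom (CommRingCat.ofHom f).hom := hfl
    let m := Spec.map (CommRingCat.ofHom f) ≫ X.fromSpecStalk (q y₀)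
    let ub := Spec.map (CommRingCat.ofHom F) ≫ gK
    obtain ⟨h₁, -, hc, hg⟩ := H R m (closedPoint_spec_comp _) ub (by
      simp only [ub, m, Category.assoc, hgK, η, ← Spec.map_comp_assoc, ← CommRingCat.ofHom_comp, hF])
    obtain ⟨g, hgl, hgm⟩ := exists_stalk_hom h₁ hc
    refine ⟨g, hgl, fun b => ?_⟩
    have key : g ≫ CommRingCat.ofHom (algebraMap R (FractionRing R)) = ψ ≫ CommRingCat.ofHom F := spec_map_eq_iff _ _ (by
      rw [Spec.map_comp, Category.assoc, hgm, Spec.map_comp, Category.assoc, hψ, hg, Category.assoc])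
    exact congrArg (fun φ : Y.presheaf.stalk y₀ ⟶ CommRingCat.of (FractionRing R) => φ.hom b) key
  have hmem : ∀ b, ψ.hom b ∈ Set.range (algebraMap (X.presheaf.stalk (q y₀)) K) := fun b =>
    exists_mem_of_forall_dvr fun R _ _ _ f hf hfl F hF => by
      obtain ⟨g, -, hg⟩ := hdvr R f hf hfl F hF
      exact ⟨_, hg b⟩
  choose θ₀ hθ₀ using hmem
  let θ : Y.presheaf.stalk y₀ ⟶ X.presheaf.stalk (q y₀) := CommRingCat.ofHom
    { toFun := θ₀
      map_one' := hOK ((hθ₀ _).trans ((map_one ψ.hom).trans (map_one _).symm))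
      map_mul' := fun a b => hOK ((hθ₀ _).trans ((map_mul ψ.hom a b).trans
        ((congr_arg₂ (· * ·) (hθ₀ a).symm (hθ₀ b).symm).trans (map_mul _ _ _).symm)))
      map_zero' := hOK ((hθ₀ _).trans ((map_zero ψ.hom).trans (map_zero _).symm))
      map_add' := fun a b => hOK ((hθ₀ _).trans ((map_add ψ.hom a b).trans
        ((congr_arg₂ (· + ·) (hθ₀ a).symm (hθ₀ b).symm).trans (map_add _ _ _).symm))) }
  have hθψ : θ ≫ CommRingCat.ofHom (algebraMap (X.presheaf.stalk (q y₀)) K) = ψ := by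
    ext b; exact hθ₀ b
  have hπθ : π ≫ θ = 𝟙 _ := by
    ext b
    apply hOK
    change algebraMap _ K (θ₀ (π.hom b)) = _
    rw [hθ₀]
    exact congrArg (fun φ : X.presheaf.stalk (q y₀) ⟶ CommRingCat.of K => φ.hom b) hψπ
  have : IsLocalHom θ.hom := by
    refine ⟨fun b hb => ?_⟩
    have hnf : ¬ IsField (X.presheaf.stalk (q y₀)) := fun hf => by
      apply hne
      change η z₀ = _
      rw [show η = Spec.map (CommRingCat.ofHom (algebraMap (X.presheaf.stalk (q y₀)) K)) ≫ X.fromSpecStalk (q y₀) from rfl,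
        Scheme.Hom.comp_apply]
      have e : (Spec.map (CommRingCat.ofHom (algebraMap (X.presheaf.stalk (q y₀)) K))) z₀ = IsLocalRing.closedPoint _ :=
        PrimeSpectrum.ext ((spec_field_apply _ z₀).trans (by
          rw [CommRingCat.hom_ofHom, (RingHom.injective_iff_ker_eq_bot _).mp hOK]
          exact (IsLocalRing.isField_iff_maximalIdeal_eq.mp hf).symm))
      rw [e, Scheme.fromSpecStalk_closedPoint]
    obtain ⟨R, _, _, _, f, hf, hfl⟩ := exists_dvr (X.presheaf.stalk (q y₀)) hnf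
    have hj : Function.Injective ((algebraMap R (FractionRing R)).comp f) := (IsFractionRing.injective R _).comp hf
    let F : K →+* FractionRing R := IsFractionRing.lift (A := X.presheaf.stalk (q y₀)) (K := K) hj
    have hFj : ∀ o, F (algebraMap _ K o) = algebraMap R (FractionRing R) (f o) := fun o =>
      IsFractionRing.lift_algebraMap (A := X.presheaf.stalk (q y₀)) (K := K) hj o
    obtain ⟨g, hgl, hg⟩ := hdvr R f hf hfl F (RingHom.ext hFj)
    refine hgl.map_nonunit b ?_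
    have : g.hom b = f (θ₀ b) := IsFractionRing.injective R (FractionRing R) (by rw [hg, ← hθ₀, hFj])
    rw [this]
    exact hb.map f
  -- spreading out
  let s₀ : Spec (X.presheaf.stalk (q y₀)) ⟶ Y := Spec.map θ ≫ Y.fromSpecStalk y₀
  have hs₀q : s₀ ≫ q = X.fromSpecStalk (q y₀) ≫ 𝟙 X := by
    rw [Category.comp_id, Category.assoc, ← Scheme.SpecMap_stalkMap_fromSpecStalk, ← Spec.map_comp_assoc, hπθ,
      Spec.map_id, Category.id_comp]
  obtain ⟨W₁, hxW₁, s, hs₀, hsq⟩ := spread_out_of_isGermInjective' (𝟙 X) q s₀ hs₀q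
  rw [Category.comp_id] at hsq
  have hsx : s ⟨q y₀, hxW₁⟩ = y₀ := by
    have h1 : s₀ (IsLocalRing.closedPoint _) = y₀ := by
      rw [Scheme.Hom.comp_apply, show (Spec.map θ) (IsLocalRing.closedPoint _) = IsLocalRing.closedPoint _ from
        Spec_closedPoint (f := θ), Scheme.fromSpecStalk_closedPoint]
    rw [hs₀, Scheme.Hom.comp_apply] at h1
    have h2 : W₁.fromSpecStalkOfMem (q y₀) hxW₁ (IsLocalRing.closedPoint _) = ⟨q y₀, hxW₁⟩ := Subtype.ext (by
      change W₁.ι _ = _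
      rw [← Scheme.Hom.comp_apply, Scheme.Opens.fromSpecStalkOfMem_ι, Scheme.fromSpecStalk_closedPoint])
    rwa [h2] at h1
  obtain ⟨_, ⟨V, hV, rfl⟩, hyV, -⟩ := Y.isBasis_affineOpens.exists_subset_of_mem_open (Set.mem_univ y₀) isOpen_univ
  -- shrink so that the values of `h` lie in `V`
  let W₂ : X.Opens := W ⊓ W₁ ⊓ (W₁.ι ''ᵁ (s ⁻¹ᵁ V))
  have hxW₂ : q y₀ ∈ W₂ := ⟨⟨hxW, hxW₁⟩, ⟨⟨q y₀, hxW₁⟩, by change s _ ∈ V; rw [hsx]; exact hyV, rfl⟩⟩
  let G : X.Opens := U.ι ''ᵁ (h ⁻¹ᵁ V)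
  have : IsAffine (W : Scheme.{u}) := hW
  have : IsLocallyNoetherian (W : Scheme.{u}) := inferInstance
  have : IsNoetherian (W : Scheme.{u}) := { }
  have hbad : (⟨q y₀, hxW⟩ : W) ∉ closure ((W.ι ⁻¹ᵁ (U ⊓ W₂) : Set W) \ (W.ι ⁻¹ᵁ G : Set W)) := by
    intro hcl
    obtain ⟨w, ⟨hwA, hwB⟩, hws⟩ := exists_specializes_of_mem_closure_locClosed (W.ι ⁻¹ᵁ (U ⊓ W₂)).isOpen
      (W.ι ⁻¹ᵁ G).isOpen hcl
    have hwU : w.1 ∈ U := hwA.1
    have h1 := hspec ⟨w.1, hwU⟩ (hws.map continuous_subtype_val)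
    exact hwB ⟨⟨w.1, hwU⟩, h1.mem_open V.isOpen hyV, rfl⟩
  let W₃ : X.Opens := W₂ ⊓ W.ι ''ᵁ ⟨(closure ((W.ι ⁻¹ᵁ (U ⊓ W₂) : Set W) \ (W.ι ⁻¹ᵁ G : Set W)))ᶜ, isClosed_closure.isOpen_compl⟩
  have hxW₃ : q y₀ ∈ W₃ := ⟨hxW₂, ⟨q y₀, hxW⟩, hbad, rfl⟩
  have hW₃₁ : W₃ ≤ W₁ := fun z hz => hz.1.1.2
  let s₃ : (W₃ : Scheme.{u}) ⟶ Y := X.homOfLE hW₃₁ ≫ s
  have hsV : ∀ z : (W₃ : Scheme.{u}), s₃ z ∈ V := fun z => by
    obtain ⟨w, hw, hwz⟩ := z.2.1.2
    rw [Scheme.Hom.comp_apply]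
    have : X.homOfLE hW₃₁ z = w := Subtype.ext ((Scheme.homOfLE_apply hW₃₁ z).trans hwz.symm)
    rw [this]; exact hw
  have hhV : ∀ w : (U ⊓ W₃ : X.Opens), h (X.homOfLE inf_le_left w) ∈ V := fun w => by
    by_contra hn
    obtain ⟨w', hw', hw''⟩ := w.2.2.2
    apply hw'
    refine subset_closure ⟨⟨?_, ?_⟩, ?_⟩
    · rw [show W.ι w' = w.1 from hw'']; exact w.2.1
    · rw [show W.ι w' = w.1 from hw'']; exact w.2.2.1
    · rintro ⟨v, hv, hvw⟩
      apply hn
      have : X.homOfLE inf_le_left w = v := Subtype.ext ((Scheme.homOfLE_apply _ w).trans (hw''.symm.trans hvw.symm))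
      rw [this]; exact hv
  have hagree : X.homOfLE (inf_le_left : U ⊓ W₃ ≤ U) ≫ h = X.homOfLE (inf_le_right : U ⊓ W₃ ≤ W₃) ≫ s₃ := by
    have hle : U ⊓ W₃ ≤ W := fun z hz => hz.2.1.1.1
    have : IsReduced ((U ⊓ W₃ : X.Opens) : Scheme.{u}) := isReduced_of_isOpenImmersion (X.homOfLE hle)
    let l : Spec (CommRingCat.of K) ⟶ ((U ⊓ W₃ : X.Opens) : Scheme.{u}) := IsOpenImmersion.lift (U ⊓ W₃).ι η (by
      rintro _ ⟨z, rfl⟩
      rw [Scheme.Opens.range_ι]
      exact ⟨hηU z, (hηsp z).mem_open W₃.isOpen hxW₃⟩)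
    have hl : l ≫ (U ⊓ W₃).ι = η := IsOpenImmersion.lift_fac _ _ _
    have : IsDominant l := by
      refine ⟨?_⟩
      have hcomp : (X.homOfLE hle : _ → _) ∘ l = ηW := by
        have : l ≫ X.homOfLE hle = ηW := by rw [← cancel_mono W.ι, Category.assoc, Scheme.homOfLE_ι, hl, hηW]
        funext z; rw [Function.comp_apply, ← Scheme.Hom.comp_apply, this]
      intro z
      rw [(X.homOfLE hle).isOpenEmbedding.isInducing.closure_eq_preimage_closure_image, Set.mem_preimage,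
        ← Set.range_comp, hcomp]
      exact hηdom _
    let a := IsOpenImmersion.lift (Scheme.Opens.ι V) (X.homOfLE (inf_le_left : U ⊓ W₃ ≤ U) ≫ h) (by
      rintro _ ⟨z, rfl⟩; rw [Scheme.Opens.range_ι, Scheme.Hom.comp_apply]; exact hhV z)
    let b := IsOpenImmersion.lift (Scheme.Opens.ι V) (X.homOfLE (inf_le_right : U ⊓ W₃ ≤ W₃) ≫ s₃) (by
      rintro _ ⟨z, rfl⟩; rw [Scheme.Opens.range_ι, Scheme.Hom.comp_apply]; exact hsV _)
    have : IsAffine (Scheme.Opens.toScheme V) := hV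
    have hab : a = b := ext_of_isDominant l (by
      rw [← cancel_mono (Scheme.Opens.ι V), Category.assoc, Category.assoc, IsOpenImmersion.lift_fac, IsOpenImmersion.lift_fac]
      have h1 : l ≫ X.homOfLE inf_le_left = gK := by
        rw [← cancel_mono U.ι, Category.assoc, Scheme.homOfLE_ι, hl, hgK]
      have h2 : (l ≫ X.homOfLE inf_le_right) ≫ X.homOfLE hW₃₁ =
          Spec.map (CommRingCat.ofHom (algebraMap (X.presheaf.stalk (q y₀)) K)) ≫ W₁.fromSpecStalkOfMem (q y₀) hxW₁ := by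
        rw [← cancel_mono W₁.ι, Category.assoc, Category.assoc, Category.assoc, Scheme.homOfLE_ι, Scheme.homOfLE_ι,
          Scheme.Opens.fromSpecStalkOfMem_ι, hl]
      rw [← Category.assoc, h1]
      change gK ≫ h = l ≫ X.homOfLE inf_le_right ≫ X.homOfLE hW₃₁ ≫ s
      rw [← Category.assoc l, ← Category.assoc (l ≫ _), h2,
        Category.assoc, ← hs₀, ← Category.assoc (Spec.map _), ← Spec.map_comp]
      exact hψ.symm.trans (congrArg (fun φ => Spec.map φ ≫ Y.fromSpecStalk y₀) hθψ.symm))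
    calc X.homOfLE (inf_le_left : U ⊓ W₃ ≤ U) ≫ h = a ≫ (Scheme.Opens.ι V) := (IsOpenImmersion.lift_fac _ _ _).symm
      _ = b ≫ (Scheme.Opens.ι V) := by rw [hab]
      _ = _ := IsOpenImmersion.lift_fac _ _ _
  obtain ⟨h', hl', hr'⟩ := exists_glue_sup U W₃ h s₃ hagree
  refine ⟨U ⊔ W₃, le_sup_left, Or.inr hxW₃, h', ?_, hl', ?_⟩
  · obtain ⟨H', hH1, hH2⟩ := exists_glue_sup U W₃ U.ι W₃.ι (by simp)
    refine Scheme.Cover.hom_ext (Scheme.openCoverOfIsOpenCover _
      (fun b : Bool => (U ⊔ W₃).ι ⁻¹ᵁ (bif b then U else W₃)) ?_) _ _ fun b => ?_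
    · refine TopologicalSpace.IsOpenCover.mk (top_le_iff.mp fun z _ => ?_)
      rw [TopologicalSpace.Opens.mem_iSup]
      rcases (z.2 : z.1 ∈ U ∨ z.1 ∈ W₃) with hz | hz
      · exact ⟨true, hz⟩
      · exact ⟨false, hz⟩
    · change ((U ⊔ W₃).ι ⁻¹ᵁ (bif b then U else W₃)).ι ≫ h' ≫ q =
        ((U ⊔ W₃).ι ⁻¹ᵁ (bif b then U else W₃)).ι ≫ (U ⊔ W₃).ι
      cases b <;> dsimp only [cond]
      · have e : ((U ⊔ W₃).ι ⁻¹ᵁ W₃).ι = ((U ⊔ W₃).ι ∣_ W₃) ≫ X.homOfLE le_sup_right := by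
          rw [← cancel_mono (U ⊔ W₃).ι, Category.assoc, Scheme.homOfLE_ι, morphismRestrict_ι]
        rw [e, Category.assoc, Category.assoc, reassoc_of% hr', Scheme.homOfLE_ι]
        simp [s₃, hsq]
      · have e : ((U ⊔ W₃).ι ⁻¹ᵁ U).ι = ((U ⊔ W₃).ι ∣_ U) ≫ X.homOfLE le_sup_left := by
          rw [← cancel_mono (U ⊔ W₃).ι, Category.assoc, Scheme.homOfLE_ι, morphismRestrict_ι]
        rw [e, Category.assoc, Category.assoc, reassoc_of% hl', Scheme.homOfLE_ι, hh]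
  · have e : X.homOfLE (le_sup_right : W₃ ≤ U ⊔ W₃) ⟨q y₀, hxW₃⟩ = ⟨q y₀, Or.inr hxW₃⟩ :=
      Subtype.ext (Scheme.homOfLE_apply _ _)
    rw [← e, ← Scheme.Hom.comp_apply, hr', Scheme.Hom.comp_apply]
    exact (congrArg s (Subtype.ext (Scheme.homOfLE_apply hW₃₁ _))).trans hsx

end Groth.Agent.DVRDom
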