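import Mathlib

/-! Gluing a morphism on a union of two opens, and points of schemes valued in DVRs. -/

universe u

open CategoryTheory CategoryTheory.Limits AlgebraicGeometry

namespace Groth.Agent.DVRDom

/-- Two morphisms on opens which agree on the intersection glue. -/
theorem exists_glue_sup {X Y : Scheme.{u}} (U V : X.Opens) (f : (U : Scheme.{u}) ⟶ Y) (g : (V : Scheme.{u}) ⟶ Y)
    (hfg : X.homOfLE (inf_le_left : U ⊓ V ≤ U) ≫ f = X.homOfLE (inf_le_right : U ⊓ V ≤ V) ≫ g) :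
    ∃ H : ((U ⊔ V : X.Opens) : Scheme.{u}) ⟶ Y,
      X.homOfLE le_sup_left ≫ H = f ∧ X.homOfLE le_sup_right ≫ H = g := by
  let W : X.Opens := U ⊔ V
  let op : Bool → X.Opens := fun b => bif b then U else V
  have hop : ∀ b, op b ≤ W := fun b => by cases b <;> simp [op, W]
  let 𝒰 : (W : Scheme.{u}).OpenCover :=
    { I₀ := ULift.{0} Bool
      X := fun b => (op b.down : Scheme.{u})
      f := fun b => X.homOfLE (hop b.down)
      mem₀ := by
        rw [Scheme.presieve₀_mem_precoverage_iff]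
        refine ⟨fun w => ?_, fun b => inferInstance⟩
        rcases (w.2 : w.1 ∈ U ∨ w.1 ∈ V) with h | h
        · exact ⟨⟨true⟩, ⟨w.1, h⟩, Subtype.ext (Scheme.homOfLE_apply (hop true) _)⟩
        · exact ⟨⟨false⟩, ⟨w.1, h⟩, Subtype.ext (Scheme.homOfLE_apply (hop false) _)⟩ }
  let F : ∀ b : ULift.{0} Bool, (op b.down : Scheme.{u}) ⟶ Y := fun b =>
    match b with
    | ⟨true⟩ => f
    | ⟨false⟩ => g
  have key : ∀ {P : Scheme.{u}} (p : P ⟶ (U : Scheme.{u})) (q : P ⟶ (V : Scheme.{u})), p ≫ U.ι = q ≫ V.ι →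
      p ≫ f = q ≫ g := by
    intro P p q hpq
    have hr : Set.range (p ≫ U.ι) ⊆ Set.range (U ⊓ V : X.Opens).ι := by
      rintro _ ⟨z, rfl⟩
      rw [Scheme.Opens.range_ι]
      refine ⟨(p z).2, ?_⟩
      rw [hpq]
      exact (q z).2
    let r := IsOpenImmersion.lift (U ⊓ V : X.Opens).ι (p ≫ U.ι) hr
    have h1 : r ≫ X.homOfLE inf_le_left = p := by
      rw [← cancel_mono U.ι, Category.assoc, Scheme.homOfLE_ι, IsOpenImmersion.lift_fac]
    have h2 : r ≫ X.homOfLE inf_le_right = q := by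
      rw [← cancel_mono V.ι, Category.assoc, Scheme.homOfLE_ι, IsOpenImmersion.lift_fac, hpq]
    rw [← h1, ← h2, Category.assoc, Category.assoc, hfg]
  have hcompat : ∀ i j, pullback.fst (𝒰.f i) (𝒰.f j) ≫ F i = pullback.snd (𝒰.f i) (𝒰.f j) ≫ F j := by
    intro i j
    have hc := congrArg (· ≫ W.ι) (pullback.condition (f := 𝒰.f i) (g := 𝒰.f j))
    simp only [Category.assoc, 𝒰, Scheme.homOfLE_ι] at hc
    obtain ⟨i⟩ := i
    obtain ⟨j⟩ := j
    cases i <;> cases j
    · exact congrArg (· ≫ g) ((cancel_mono V.ι).mp hc)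
    · exact (key _ _ hc.symm).symm
    · exact key _ _ hc
    · exact congrArg (· ≫ f) ((cancel_mono U.ι).mp hc)
  exact ⟨𝒰.glueMorphisms F hcompat, 𝒰.ι_glueMorphisms F hcompat ⟨true⟩, 𝒰.ι_glueMorphisms F hcompat ⟨false⟩⟩

end Groth.Agent.DVRDom
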