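import Groth.Agent.DVRDom.Points
import Groth.Agent.DVRDom.Glue
import Mathlib

/-! Extending a section to a normal point (EGA IV 20.4): the criterion by discrete valuation rings. -/

universe u

open CategoryTheory CategoryTheory.Limits AlgebraicGeometry

namespace Groth.Agent.DVRDom

open IsLocalRing in
/-- The valuation-theoretic heart: a local ring map from `B` to the fraction field of a normal noetherian
local domain `O`, compatible with every dominating DVR, lands in `O`. -/
theorem exists_mem_of_forall_dvr {O : Type u} [CommRing O] [IsDomain O] [IsLocalRing O] [IsNoetherianRing O]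
    [IsIntegrallyClosed O] {K : Type u} [Field K] [Algebra O K] [IsFractionRing O K] {t : K}
    (h : ∀ (R : Type u) [CommRing R] [IsDomain R] [IsDiscreteValuationRing R] (f : O →+* R),
      Function.Injective f → IsLocalHom f → ∀ F : K →+* FractionRing R,
        F.comp (algebraMap O K) = (algebraMap R (FractionRing R)).comp f →
        ∃ r : R, algebraMap R (FractionRing R) r = F t) :
    t ∈ Set.range (algebraMap O K) := by
  by_contra hc
  have ht : ¬ IsIntegral O t := fun hi => hc (IsIntegrallyClosed.isIntegral_iff.mp hi)
  have ht0 : t ≠ 0 := fun e => hc ⟨0, by rw [map_zero, e]⟩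
  have hOK := IsFractionRing.injective O K
  let S := Algebra.adjoin O ({t⁻¹} : Set K)
  let ti : S := ⟨t⁻¹, Algebra.subset_adjoin rfl⟩
  let J : Ideal S := (maximalIdeal O).map (algebraMap O S) ⊔ Ideal.span {ti}
  -- the elements of `J` are values of polynomials with constant term in the maximal ideal
  let ev : Polynomial O →ₐ[O] S := Polynomial.aeval ti
  have hev : Function.Surjective ev := by
    intro s
    obtain ⟨p, hp⟩ := (Algebra.adjoin_singleton_eq_range_aeval O (t⁻¹ : K)).le s.2
    refine ⟨p, Subtype.ext ?_⟩
    have h1 := Polynomial.aeval_algHom_apply S.val ti p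
    exact h1.symm.trans hp
  let J₀ : Ideal (Polynomial O) := (maximalIdeal O).map Polynomial.C ⊔ Ideal.span {Polynomial.X}
  have hmap : J₀.map ev.toRingHom = J := by
    rw [Ideal.map_sup, Ideal.map_map, Ideal.map_span, Set.image_singleton]
    congr 1
    · congr 1
      exact RingHom.ext fun o => Polynomial.aeval_C ti o
    · simp [ev]
  have hJ : J ≠ ⊤ := by
    intro htop
    have h1 : (1 : S) ∈ J₀.map ev.toRingHom := by rw [hmap, htop]; trivial
    obtain ⟨p, hp, hp1⟩ := (Ideal.mem_map_iff_of_surjective ev.toRingHom hev).mp h1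
    have hp0 : p.coeff 0 ∈ maximalIdeal O := by
      have h2 : J₀ ≤ (maximalIdeal O).comap Polynomial.constantCoeff := by
        refine sup_le (Ideal.map_le_iff_le_comap.mpr fun o ho => ?_) ((Ideal.span_singleton_le_iff_mem _).mpr ?_)
        · simpa [Ideal.mem_comap] using ho
        · simp [Ideal.mem_comap]
      simpa [Ideal.mem_comap] using h2 hp
    apply ht
    -- reverse the relation `p(1/t) = 1`
    let q := (p - 1).reverse
    have hne : p - 1 ≠ 0 := by
      intro h0
      rw [sub_eq_zero.mp h0] at hp0
      simp at hp0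
    have hu : IsUnit ((p - 1).coeff 0) := by
      rw [Polynomial.coeff_sub, Polynomial.coeff_one_zero]
      exact not_not.mp fun hn => (maximalIdeal.isMaximal O).ne_top ((Ideal.eq_top_iff_one _).mpr (by
        have hm : p.coeff 0 - 1 ∈ maximalIdeal O := hn
        simpa using (maximalIdeal O).sub_mem hp0 hm))
    have htd : (p - 1).natTrailingDegree = 0 := Polynomial.natTrailingDegree_eq_zero.mpr (Or.inr hu.ne_zero)
    have hlead : q.leadingCoeff = (p - 1).coeff 0 := by
      rw [Polynomial.reverse_leadingCoeff, Polynomial.trailingCoeff, htd]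
    have heval : Polynomial.aeval t q = 0 := by
      let : Invertible (t⁻¹ : K) := ⟨t, mul_inv_cancel₀ ht0, inv_mul_cancel₀ ht0⟩
      have h2 : Polynomial.eval₂ (algebraMap O K) (t⁻¹ : K) (p - 1) = 0 := by
        have h3 : (ev (p - 1) : K) = 0 := by
          have : ev p = 1 := hp1
          rw [map_sub, map_one, this, sub_self]; rfl
        rw [← Polynomial.aeval_def]
        exact (Polynomial.aeval_algHom_apply S.val ti (p - 1)).trans h3
      have h4 := (Polynomial.eval₂_reverse_eq_zero_iff (algebraMap O K) (t⁻¹ : K) (p - 1)).mpr h2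
      exact h4
    refine ⟨Polynomial.C (↑hu.unit⁻¹ : O) * q, ?_, ?_⟩
    · refine Polynomial.monic_C_mul_of_mul_leadingCoeff_eq_one ?_
      rw [hlead]
      exact hu.val_inv_mul
    · rw [Polynomial.eval₂_mul, ← Polynomial.aeval_def t q, heval, mul_zero]
  obtain ⟨M, hM, hJM⟩ := Ideal.exists_le_maximal J hJ
  have : Algebra.FiniteType O S := (Subalgebra.fg_iff_finiteType S).mp ⟨{t⁻¹}, by simp [S]⟩
  have : IsNoetherianRing S := Algebra.FiniteType.isNoetherianRing O S
  have := hM.isPrime
  let A := Localization.AtPrime M
  have hSA : Function.Injective (algebraMap S A) := IsLocalization.injective A M.primeCompl_le_nonZeroDivisors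
  have htiM : ti ∈ M := hJM (Ideal.mem_sup_right (Ideal.mem_span_singleton_self ti))
  have htiA : algebraMap S A ti ∈ maximalIdeal A := (IsLocalization.AtPrime.to_map_mem_maximal_iff A M ti).mpr htiM
  have hA : ¬ IsField A := fun hf => by
    rw [IsLocalRing.isField_iff_maximalIdeal_eq] at hf
    rw [hf, Submodule.mem_bot] at htiA
    exact inv_ne_zero ht0 (congrArg Subtype.val ((map_eq_zero_iff _ hSA).mp htiA))
  obtain ⟨R, _, _, _, fA, hfA, hfAl⟩ := exists_dvr A hA
  have hOS : Function.Injective (algebraMap O S) := fun a b hab => hOK (congrArg Subtype.val hab)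
  let f : O →+* R := fA.comp ((algebraMap S A).comp (algebraMap O S))
  have hf : Function.Injective f := hfA.comp (hSA.comp hOS)
  have hfl : IsLocalHom f := ⟨fun o ho => by
    by_contra hu
    have hoM : algebraMap O S o ∈ M := hJM (Ideal.mem_sup_left (Ideal.mem_map_of_mem _ hu))
    exact (IsLocalization.AtPrime.to_map_mem_maximal_iff A M _).mpr hoM (hfAl.map_nonunit _ ho)⟩
  have hj : Function.Injective ((algebraMap R (FractionRing R)).comp f) := (IsFractionRing.injective R _).comp hf
  obtain ⟨F, hFj⟩ : ∃ F : K →+* FractionRing R, ∀ o, F (algebraMap O K o) = algebraMap R (FractionRing R) (f o) :=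
    ⟨IsFractionRing.lift (A := O) (K := K) hj, fun o => IsFractionRing.lift_algebraMap (A := O) (K := K) hj o⟩
  obtain ⟨r, hr⟩ := h R f hf hfl F (RingHom.ext hFj)
  have hFS : ∀ s : S, F (s : K) = algebraMap R (FractionRing R) (fA (algebraMap S A s)) := by
    rintro ⟨s, hs⟩
    -- both sides are ring maps on `S`, equal on `O` and hence on the fraction field
    obtain ⟨a, b, hb, hab⟩ := IsFractionRing.div_surjective O (s : K)
    have hb0 : algebraMap O K b ≠ 0 := fun e => nonZeroDivisors.ne_zero hb (hOK (by rw [e, map_zero]))
    have h5 : (⟨s, hs⟩ : S) * algebraMap O S b = algebraMap O S a := Subtype.ext (by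
      change s * algebraMap O K b = algebraMap O K a
      rw [← hab, div_mul_cancel₀ _ hb0])
    have h6 := congrArg (fun z : S => algebraMap R (FractionRing R) (fA (algebraMap S A z))) h5
    simp only [map_mul] at h6
    have hF : ∀ o : O, F (algebraMap O K o) = algebraMap R (FractionRing R) (fA (algebraMap S A (algebraMap O S o))) :=
      hFj
    refine mul_right_cancel₀ ((map_ne_zero F).mpr hb0) ?_
    change F s * F (algebraMap O K b) = _
    rw [← map_mul, show s * algebraMap O K b = algebraMap O K a from congrArg Subtype.val h5, hF, hF, ← h6]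
  have hprod : r * fA (algebraMap S A ti) = 1 := by
    apply IsFractionRing.injective R (FractionRing R)
    rw [map_mul, map_one, hr, ← hFS ti]
    change F t * F (t⁻¹) = 1
    rw [← map_mul, mul_inv_cancel₀ ht0, map_one]
  have hu : IsUnit (fA (algebraMap S A ti)) := isUnit_iff_exists_inv.mpr ⟨r, by rw [mul_comm]; exact hprod⟩
  exact htiA (hfAl.map_nonunit _ hu)

end Groth.Agent.DVRDom
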