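import Mathlib

/-! Zariski's main theorem in the form: an isolated point of the closed fibre over a normal local domain. -/

namespace Groth.Agent.DVRDom

/-- If `S` is a localization of a finite type subalgebra `C` at a prime which is alone in the closed fibre among
the primes above the kernel of `ψ`, then `ψ` factors through a local map to the normal local domain `O`. -/
theorem exists_local_section_of_fiber {O S K : Type*} [CommRing O] [IsDomain O] [IsIntegrallyClosed O]
    [IsLocalRing O] [CommRing S] [IsLocalRing S] [Algebra O S] [IsLocalHom (algebraMap O S)]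
    [Field K] [Algebra O K] [IsFractionRing O K] (ψ : S →ₐ[O] K) (C : Subalgebra O S) [Algebra.FiniteType O C]
    (hloc : ∀ s : S, ∃ c t : C, IsUnit (t : S) ∧ s * t = c)
    (hfib : ∀ Q : Ideal C, Q.IsPrime → (∀ d : C, ψ (d : S) = 0 → d ∈ Q) →
      Q.comap (algebraMap O C) = IsLocalRing.maximalIdeal O → Q = (IsLocalRing.maximalIdeal S).comap C.val) :
    ∃ θ : S →+* O, IsLocalHom θ ∧ θ.comp (algebraMap O S) = RingHom.id O ∧
      (algebraMap O K).comp θ = ψ.toRingHom := by
  have hker : ∀ s, ψ s = 0 → s ∈ IsLocalRing.maximalIdeal S := fun s hs hu =>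
    (hu.map ψ).ne_zero hs
  have hinj := IsFractionRing.injective O K
  -- an element with value `o` is a unit iff `o` is
  have hunit : ∀ s o, ψ s = algebraMap O K o → IsUnit o → IsUnit s := fun s o h ho => by
    by_contra hs
    have h1 : s - algebraMap O S o ∈ IsLocalRing.maximalIdeal S := hker _ (by simp [h])
    have h2 : algebraMap O S o ∈ IsLocalRing.maximalIdeal S := by
      simpa using (IsLocalRing.maximalIdeal S).sub_mem (show s ∈ IsLocalRing.maximalIdeal S from hs) h1
    exact h2 (ho.map _)
  have hunit' : ∀ s o, ψ s = algebraMap O K o → IsUnit s → IsUnit o := fun s o h hs => by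
    by_contra ho
    have h1 : s - algebraMap O S o ∈ IsLocalRing.maximalIdeal S := hker _ (by simp [h])
    have h2 : algebraMap O S o ∈ IsLocalRing.maximalIdeal S := fun hu =>
      ho (isUnit_of_map_unit (algebraMap O S) o hu)
    exact (show s ∈ IsLocalRing.maximalIdeal S by
      simpa using (IsLocalRing.maximalIdeal S).add_mem h1 h2) hs
  let φ : C →ₐ[O] K := ψ.comp C.val
  let g : C →ₐ[O] φ.range := φ.rangeRestrict
  have hg : Function.Surjective g := AlgHom.rangeRestrict_surjective φ
  have : Algebra.FiniteType O φ.range := .of_surjective g hg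
  let P : Ideal C := (IsLocalRing.maximalIdeal S).comap C.val
  have : P.IsPrime := Ideal.IsPrime.comap _
  have hkP : RingHom.ker g ≤ P := fun c hc => hker _ (congrArg Subtype.val (RingHom.mem_ker.mp hc))
  let P' : Ideal φ.range := P.map g
  have : P'.IsPrime := Ideal.map_isPrime_of_surjective hg hkP
  have hPP' : ∀ c, g c ∈ P' → c ∈ P := fun c hc => by
    obtain ⟨d, hd, hdc⟩ := (Ideal.mem_map_iff_of_surjective g hg).mp hc
    have := P.sub_mem hd (hkP (RingHom.mem_ker.mpr (show g (d - c) = 0 by rw [map_sub, hdc, sub_self])))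
    simpa using this
  have hcom : P'.comap (algebraMap O φ.range) = IsLocalRing.maximalIdeal O := by
    apply le_antisymm (IsLocalRing.le_maximalIdeal Ideal.IsPrime.ne_top')
    intro o ho
    have : g (algebraMap O C o) ∈ P' := Ideal.mem_map_of_mem g
      (show algebraMap O C o ∈ P from fun hu => ho (isUnit_of_map_unit (algebraMap O S) o hu))
    rwa [g.commutes] at this
  have hsub : ∀ x : PrimeSpectrum φ.range, x.comap (algebraMap O φ.range) =
      (⟨P', inferInstance⟩ : PrimeSpectrum φ.range).comap (algebraMap O φ.range) → x = ⟨P', inferInstance⟩ := by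
    intro x hx
    have hx' : x.asIdeal.comap (algebraMap O φ.range) = IsLocalRing.maximalIdeal O := by
      rw [← hcom]; exact congrArg PrimeSpectrum.asIdeal hx
    have h1 : x.asIdeal.comap g = P := hfib (x.asIdeal.comap g) inferInstance
      (fun d hd => by
        change g d ∈ x.asIdeal
        rw [show g d = 0 from Subtype.ext hd]; exact Ideal.zero_mem _)
      (by
        rw [← hx', ← Ideal.comap_coe g, Ideal.comap_comap, AlgHom.comp_algebraMap])
    apply PrimeSpectrum.ext
    calc x.asIdeal = (x.asIdeal.comap g).map g := (Ideal.map_comap_of_surjective _ hg _).symm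
      _ = P' := by rw [h1]
  have : Algebra.QuasiFiniteAt O P' := by
    refine Algebra.QuasiFiniteAt.of_isOpen_singleton_fiber (⟨P', inferInstance⟩ : PrimeSpectrum φ.range) ?_
    convert isOpen_univ using 1
    exact Set.eq_univ_of_forall fun x => Subtype.ext (hsub x.1 x.2)
  -- Zariski's main theorem
  obtain ⟨r, hr, hri, hx⟩ := Algebra.zariskisMainProperty_iff.mp
    (Algebra.ZariskisMainProperty.of_finiteType (R := O) P')
  obtain ⟨o, ho⟩ := IsIntegrallyClosed.isIntegral_iff.mp (hri.map φ.range.val)
  obtain ⟨rc, rfl⟩ := hg r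
  have hou : IsUnit o := hunit' (rc : S) o ho.symm (by
    by_contra h
    exact hr (Ideal.mem_map_of_mem g (show rc ∈ P from h)))
  have hC : ∀ c : C, ∃ a, algebraMap O K a = ψ (c : S) := fun c => by
    obtain ⟨m, hm⟩ := hx (g c)
    obtain ⟨a, ha⟩ := IsIntegrallyClosed.isIntegral_iff.mp (hm.map φ.range.val)
    refine ⟨↑(hou.unit⁻¹ ^ m) * a, ?_⟩
    rw [map_mul, ha, map_mul, map_pow, ← ho, ← mul_assoc, ← map_pow, ← map_mul, Units.val_pow_eq_pow_val,
      ← mul_pow, IsUnit.val_inv_mul, one_pow, map_one, one_mul]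
    rfl
  have hS : ∀ s, ∃ a, algebraMap O K a = ψ s := fun s => by
    obtain ⟨c, t, ht, hct⟩ := hloc s
    obtain ⟨a, ha⟩ := hC c
    obtain ⟨b, hb⟩ := hC t
    have hbu : IsUnit b := hunit' _ b hb.symm ht
    refine ⟨a * ↑hbu.unit⁻¹, (hbu.map (algebraMap O K)).mul_left_inj.mp ?_⟩
    rw [← map_mul, mul_assoc, IsUnit.val_inv_mul, mul_one, ha, hb, ← map_mul]
    exact congrArg ψ hct.symm
  choose θ hθ using hS
  let Θ : S →+* O :=
    { toFun := θ
      map_one' := hinj (by rw [hθ, map_one, map_one])
      map_mul' := fun a b => hinj (by rw [map_mul, hθ, hθ, hθ, map_mul])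
      map_zero' := hinj (by rw [hθ, map_zero, map_zero])
      map_add' := fun a b => hinj (by rw [map_add, hθ, hθ, hθ, map_add]) }
  refine ⟨Θ, ⟨fun s hs => hunit s _ (hθ s).symm hs⟩, RingHom.ext fun o => hinj ?_, RingHom.ext hθ⟩
  exact (hθ _).trans (ψ.commutes o)

end Groth.Agent.DVRDom
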