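import Groth.Agent.DVRDom.Section
import Groth.Agent.DVRDom.ZMTFiber

/-! A rational map is defined at a normal point with an isolated point in the fibre of its graph. -/

universe u

open CategoryTheory CategoryTheory.Limits AlgebraicGeometry

namespace Groth.Agent.DVRDom

theorem exists_extension_of_isolated {X Y S : Scheme.{u}} (pX : X ⟶ S) (pY : Y ⟶ S)
    [LocallyOfFiniteType pY] [IsSeparated pY] (hX : ∀ y : ↥X, ∃ W : X.Opens, y ∈ W ∧ IsIntegral (W : Scheme.{u}))
    (U : X.Opens) (hU : Dense (U : Set ↥X)) (h : (U : Scheme.{u}) ⟶ Y) (hh : U.ι ≫ pX = h ≫ pY)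
    (x : ↥X) (hx : IsIntegrallyClosed (X.presheaf.stalk x))
    (z : ↥(pullback pX pY)) (hz : pullback.fst pX pY z = x)
    (hzΓ : z ∈ closure (Set.range (pullback.lift U.ι h hh)))
    (hiso : ∃ W : (pullback pX pY).Opens, (W : Set ↥(pullback pX pY)) ∩ closure (Set.range (pullback.lift U.ι h hh)) ∩
      (pullback.fst pX pY) ⁻¹' {x} = {z}) :
    ∃ (V : X.Opens) (v : (V : Scheme.{u}) ⟶ Y), x ∈ V ∧ v ≫ pY = V.ι ≫ pX ∧
      X.homOfLE (inf_le_right : U ⊓ V ≤ V) ≫ v = X.homOfLE (inf_le_left : U ⊓ V ≤ U) ≫ h := by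
  subst hz
  obtain ⟨W₀, hxW₀, hW₀i⟩ := hX (pullback.fst pX pY z)
  obtain ⟨_, ⟨W', hW, rfl⟩, hxW, hWW₀⟩ := X.isBasis_affineOpens.exists_subset_of_mem_open hxW₀ W₀.isOpen
  obtain ⟨W, rfl⟩ : ∃ W : X.Opens, W = W' := ⟨W', rfl⟩
  have : IsIntegral (W : Scheme.{u}) := by
    have : Nonempty (W : Scheme.{u}) := ⟨⟨_, hxW⟩⟩
    exact isIntegral_of_isOpenImmersion (X.homOfLE (show W ≤ W₀ from hWW₀))
  have : IsDomain Γ(X, W) := W.topIso.commRingCatIsoToRingEquiv.symm.injective.isDomain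
    W.topIso.commRingCatIsoToRingEquiv.symm.toRingHom
  let := TopCat.Presheaf.algebra_section_stalk X.presheaf (⟨pullback.fst pX pY z, hxW⟩ : W)
  have hOl := hW.isLocalization_stalk ⟨pullback.fst pX pY z, hxW⟩
  have hpc : (hW.primeIdealOf ⟨pullback.fst pX pY z, hxW⟩).asIdeal.primeCompl ≤ nonZeroDivisors Γ(X, W) :=
    Ideal.primeCompl_le_nonZeroDivisors _
  have : IsDomain (X.presheaf.stalk (pullback.fst pX pY z)) :=
    IsLocalization.isDomain_of_le_nonZeroDivisors _ hpc
  have hWinj : Function.Injective (X.presheaf.germ W (pullback.fst pX pY z) hxW) :=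
    IsLocalization.injective (X.presheaf.stalk (pullback.fst pX pY z)) hpc
  have : X.IsGermInjectiveAt (pullback.fst pX pY z) := ⟨⟨W, hxW, hW, hWinj⟩⟩
  have hOK := IsFractionRing.injective (X.presheaf.stalk (pullback.fst pX pY z))
    (FractionRing (X.presheaf.stalk (pullback.fst pX pY z)))
  let K := FractionRing (X.presheaf.stalk (pullback.fst pX pY z))
  let η : Spec (CommRingCat.of K) ⟶ X :=
    Spec.map (CommRingCat.ofHom (algebraMap (X.presheaf.stalk (pullback.fst pX pY z)) K)) ≫ X.fromSpecStalk (pullback.fst pX pY z)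
  have hηsp : ∀ t, η t ⤳ (pullback.fst pX pY z) := fun t => by
    have : η t ∈ Set.range (X.fromSpecStalk (pullback.fst pX pY z)) := ⟨_, (Scheme.Hom.comp_apply _ _ t).symm⟩
    rwa [Scheme.range_fromSpecStalk] at this
  let ηW : Spec (CommRingCat.of K) ⟶ (W : Scheme.{u}) :=
    Spec.map (CommRingCat.ofHom (algebraMap (X.presheaf.stalk (pullback.fst pX pY z)) K)) ≫ W.fromSpecStalkOfMem (pullback.fst pX pY z) hxW
  have hηW : ηW ≫ W.ι = η := by simp [ηW, η]
  have hηdom : DenseRange ηW := by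
    have h2 : ηW ≫ hW.isoSpec.hom =
        Spec.map (X.presheaf.germ W (pullback.fst pX pY z) hxW ≫ CommRingCat.ofHom (algebraMap (X.presheaf.stalk (pullback.fst pX pY z)) K)) := by
      simp [ηW, IsAffineOpen.isoSpec_hom, Spec.map_comp]
      rfl
    have h3 : DenseRange (ηW ≫ hW.isoSpec.hom) := by
      rw [h2]
      exact PrimeSpectrum.denseRange_comap_iff_ker_le_nilRadical _ |>.mpr (fun a ha => by
        have : a = 0 := hWinj (hOK ((RingHom.mem_ker.mp ha).trans (by simp)))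
        rw [this]; exact Ideal.zero_mem _)
    have hc : Continuous (hW.isoSpec.inv) := hW.isoSpec.inv.continuous
    have hs : Function.Surjective (hW.isoSpec.inv) := hW.isoSpec.inv.surjective
    have h4 := hs.denseRange.comp h3 hc
    have : (hW.isoSpec.inv : _ → _) ∘ (ηW ≫ hW.isoSpec.hom) = ηW := by
      funext t
      rw [Function.comp_apply, ← Scheme.Hom.comp_apply, Category.assoc, Iso.hom_inv_id, Category.comp_id]
    rwa [this] at h4
  have hηU : ∀ t, η t ∈ U := fun t => by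
    have hUW : (W.ι ⁻¹ᵁ U : Set W).Nonempty := by
      obtain ⟨w, hwW, hwU⟩ := hU.inter_open_nonempty W W.isOpen ⟨(pullback.fst pX pY z), hxW⟩
      exact ⟨⟨w, hwW⟩, hwU⟩
    obtain ⟨t', hz'⟩ := hηdom.exists_mem_open (W.ι ⁻¹ᵁ U).isOpen hUW
    have : t = t' := PrimeSpectrum.ext ((Ideal.eq_bot_or_top t.asIdeal).resolve_right t.isPrime.ne_top |>.trans
      ((Ideal.eq_bot_or_top t'.asIdeal).resolve_right t'.isPrime.ne_top).symm)
    rw [← hηW, this, Scheme.Hom.comp_apply]
    exact hz'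
  let gK : Spec (CommRingCat.of K) ⟶ (U : Scheme.{u}) := IsOpenImmersion.lift U.ι η (by
    rintro _ ⟨t, rfl⟩; rw [Scheme.Opens.range_ι]; exact hηU t)
  have hgK : gK ≫ U.ι = η := IsOpenImmersion.lift_fac _ _ _
  let z₀ : Spec (CommRingCat.of K) := IsLocalRing.closedPoint K
  let gP : Spec (CommRingCat.of K) ⟶ pullback pX pY := gK ≫ pullback.lift U.ι h hh
  have hgen : ∀ w : (U : Scheme.{u}), w.1 ∈ W → gK z₀ ⤳ w := fun w hw => by
    rw [← U.ι.isOpenEmbedding.isInducing.specializes_iff, ← Scheme.Hom.comp_apply, hgK, ← hηW,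
      Scheme.Hom.comp_apply]
    have : ηW z₀ ⤳ ⟨w.1, hw⟩ := by
      rw [specializes_iff_mem_closure]
      refine closure_mono ?_ (hηdom ⟨w.1, hw⟩)
      rintro _ ⟨t, rfl⟩
      rw [Set.mem_singleton_iff]
      exact congrArg ηW (PrimeSpectrum.ext ((Ideal.eq_bot_or_top t.asIdeal).resolve_right t.isPrime.ne_top |>.trans
        ((Ideal.eq_bot_or_top z₀.asIdeal).resolve_right z₀.isPrime.ne_top).symm))
    exact this.map W.ι.continuous
  have hyη : gP z₀ ⤳ z := by
    rw [specializes_iff_forall_open]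
    intro N hN hzN
    obtain ⟨_, ⟨hwN, hwW⟩, w, rfl⟩ := mem_closure_iff.mp hzΓ _
      (hN.inter ((pullback.fst pX pY) ⁻¹ᵁ W).isOpen) ⟨hzN, hxW⟩
    have hw : w.1 ∈ W := by
      have h1 : pullback.fst pX pY (pullback.lift U.ι h hh w) ∈ W := hwW
      rwa [← Scheme.Hom.comp_apply, pullback.lift_fst] at h1
    exact ((hgen w hw).map (pullback.lift U.ι h hh).continuous).mem_open hN hwN
  let ψ : (pullback pX pY).presheaf.stalk z ⟶ CommRingCat.of K :=
    (pullback pX pY).presheaf.stalkSpecializes hyη ≫ Scheme.stalkClosedPointTo gP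
  have hψ : Spec.map ψ ≫ (pullback pX pY).fromSpecStalk z = gP := by
    rw [Spec.map_comp, Category.assoc, Scheme.SpecMap_stalkSpecializes_fromSpecStalk,
      Scheme.Spec_stalkClosedPointTo_fromSpecStalk]
  let π : X.presheaf.stalk (pullback.fst pX pY z) ⟶ (pullback pX pY).presheaf.stalk z :=
    (pullback.fst pX pY).stalkMap z
  have hψπ : π ≫ ψ = CommRingCat.ofHom (algebraMap (X.presheaf.stalk (pullback.fst pX pY z)) K) :=
    spec_map_eq_iff _ _ (by
    rw [Spec.map_comp, Category.assoc, Scheme.SpecMap_stalkMap_fromSpecStalk, ← Category.assoc, hψ,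
      Category.assoc, pullback.lift_fst, hgK])
  let := π.hom.toAlgebra
  have : IsLocalHom (algebraMap (X.presheaf.stalk (pullback.fst pX pY z)) ((pullback pX pY).presheaf.stalk z)) :=
    (inferInstance : IsLocalHom ((pullback.fst pX pY).stalkMap z).hom)
  have : IsIntegrallyClosed (X.presheaf.stalk (pullback.fst pX pY z)) := hx
  let ψ' : (pullback pX pY).presheaf.stalk z →ₐ[X.presheaf.stalk (pullback.fst pX pY z)] K :=
    { ψ.hom with
      commutes' := fun o => congrArg
        (fun φ : X.presheaf.stalk (pullback.fst pX pY z) ⟶ CommRingCat.of K => φ.hom o) hψπ }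
  -- an affine chart in which the fibre of the closure of the graph is a single point
  obtain ⟨Wz, hWz⟩ := hiso
  have hzWz : z ∈ Wz := (hWz.symm.subset (Set.mem_singleton z)).1.1
  obtain ⟨_, ⟨Vz', hVz, rfl⟩, hzV, hVW⟩ := (pullback pX pY).isBasis_affineOpens.exists_subset_of_mem_open
    (show z ∈ ((Wz ⊓ pullback.fst pX pY ⁻¹ᵁ W : (pullback pX pY).Opens) : Set ↥(pullback pX pY)) from ⟨hzWz, hxW⟩)
    (Wz ⊓ pullback.fst pX pY ⁻¹ᵁ W).isOpen
  obtain ⟨Vz, rfl⟩ : ∃ V : (pullback pX pY).Opens, V = Vz' := ⟨Vz', rfl⟩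
  let e : Vz ≤ pullback.fst pX pY ⁻¹ᵁ W := fun t ht => (hVW ht).2
  let fA := (pullback.fst pX pY).appLE W Vz e
  let germP := (pullback pX pY).presheaf.germ Vz z hzV
  have hnat : ∀ a, germP.hom (fA.hom a) = π.hom ((X.presheaf.germ W _ hxW).hom a) := fun a => by
    have h1 : fA ≫ germP = X.presheaf.germ W _ hxW ≫ π := by
      simp [fA, germP, π, Scheme.Hom.appLE]
    exact congrArg (fun φ : Γ(X, W) ⟶ (pullback pX pY).presheaf.stalk z => φ.hom a) h1
  let C : Subalgebra (X.presheaf.stalk (pullback.fst pX pY z)) ((pullback pX pY).presheaf.stalk z) :=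
    Algebra.adjoin _ (Set.range germP.hom)
  have : Algebra.FiniteType (X.presheaf.stalk (pullback.fst pX pY z)) C := by
    have hft : fA.hom.FiniteType := (pullback.fst pX pY).finiteType_appLE hW hVz e
    let := fA.hom.toAlgebra
    have : Algebra.FiniteType Γ(X, W) Γ(pullback pX pY, Vz) := hft
    obtain ⟨T, hT⟩ := Algebra.FiniteType.out (R := Γ(X, W)) (A := Γ(pullback pX pY, Vz))
    classical
    refine (Subalgebra.fg_iff_finiteType C).mp ⟨T.image germP.hom, ?_⟩
    apply le_antisymm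
    · refine Algebra.adjoin_le ?_
      intro s hs
      obtain ⟨t, -, rfl⟩ := Finset.mem_image.mp hs
      exact Algebra.subset_adjoin ⟨t, rfl⟩
    · refine Algebra.adjoin_le ?_
      rintro _ ⟨t, rfl⟩
      have ht : t ∈ Algebra.adjoin Γ(X, W) (T : Set Γ(pullback pX pY, Vz)) := by rw [hT]; trivial
      induction ht using Algebra.adjoin_induction with
      | mem t ht => exact Algebra.subset_adjoin (Finset.mem_image_of_mem _ ht)
      | algebraMap a =>
        rw [SetLike.mem_coe, show (algebraMap Γ(X, W) Γ(pullback pX pY, Vz)) a = fA.hom a from rfl, hnat]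
        exact Subalgebra.algebraMap_mem _ _
      | add a b _ _ ha hb => rw [SetLike.mem_coe, map_add]; exact add_mem ha hb
      | mul a b _ _ ha hb => rw [SetLike.mem_coe, map_mul]; exact mul_mem ha hb
  let := TopCat.Presheaf.algebra_section_stalk (pullback pX pY).presheaf (⟨z, hzV⟩ : Vz)
  have hSl := hVz.isLocalization_stalk ⟨z, hzV⟩
  have hloc : ∀ s : (pullback pX pY).presheaf.stalk z, ∃ c t : C,
      IsUnit (t : (pullback pX pY).presheaf.stalk z) ∧ s * t = c := fun s => by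
    obtain ⟨⟨c, t⟩, hct⟩ := IsLocalization.surj (hVz.primeIdealOf ⟨z, hzV⟩).asIdeal.primeCompl s
    exact ⟨⟨germP.hom c, Algebra.subset_adjoin ⟨c, rfl⟩⟩, ⟨germP.hom t.1, Algebra.subset_adjoin ⟨t.1, rfl⟩⟩,
      IsLocalization.map_units ((pullback pX pY).presheaf.stalk z) t, hct⟩
  let gC : Γ(pullback pX pY, Vz) →+* C := germP.hom.codRestrict C fun c => Algebra.subset_adjoin ⟨c, rfl⟩
  have hfib : ∀ Q : Ideal C, Q.IsPrime → (∀ d : C, ψ' (d : _) = 0 → d ∈ Q) →
      Q.comap (algebraMap _ C) = IsLocalRing.maximalIdeal (X.presheaf.stalk (pullback.fst pX pY z)) →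
      Q = (IsLocalRing.maximalIdeal ((pullback pX pY).presheaf.stalk z)).comap C.val := by
    intro Q hQ hker hQm
    let c : Spec Γ(pullback pX pY, Vz) := ⟨Q.comap gC, inferInstance⟩
    have hc1 : hVz.fromSpec c ∈ Wz := by
      have : hVz.fromSpec c ∈ (Vz : Set ↥(pullback pX pY)) := by
        rw [← hVz.range_fromSpec]; exact ⟨c, rfl⟩
      exact (hVW this).1
    have hc2 : hVz.fromSpec c ∈ closure (Set.range (pullback.lift U.ι h hh)) := by
      have h1 : gP = Spec.map (germP ≫ ψ) ≫ hVz.fromSpec := by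
        rw [Spec.map_comp, Category.assoc, ← hψ, ← IsAffineOpen.fromSpecStalk_eq_fromSpecStalk hVz hzV]
        rfl
      have h2 : gP z₀ ⤳ hVz.fromSpec c := by
        rw [h1, Scheme.Hom.comp_apply]
        refine ((PrimeSpectrum.le_iff_specializes _ _).mp ?_).map hVz.fromSpec.continuous
        change Ideal.comap _ z₀.asIdeal ≤ Q.comap gC
        intro a ha
        exact hker _ (((Ideal.eq_bot_or_top z₀.asIdeal).resolve_right z₀.isPrime.ne_top).le ha)
      exact h2.mem_closed isClosed_closure (subset_closure ⟨gK z₀, (Scheme.Hom.comp_apply _ _ _).symm⟩)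
    have hc3 : pullback.fst pX pY (hVz.fromSpec c) = pullback.fst pX pY z := by
      rw [← Scheme.Hom.comp_apply, ← IsAffineOpen.SpecMap_appLE_fromSpec _ hW hVz e, Scheme.Hom.comp_apply]
      have : (Spec.map fA) c = hW.primeIdealOf ⟨pullback.fst pX pY z, hxW⟩ := PrimeSpectrum.ext (by
        rw [← IsLocalization.AtPrime.comap_maximalIdeal (X.presheaf.stalk (pullback.fst pX pY z))
          (hW.primeIdealOf ⟨pullback.fst pX pY z, hxW⟩).asIdeal, ← hQm]
        ext a
        change gC (fA.hom a) ∈ Q ↔ algebraMap _ C _ ∈ Q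
        rw [show gC (fA.hom a) = algebraMap (X.presheaf.stalk (pullback.fst pX pY z)) C
          ((X.presheaf.germ W _ hxW).hom a) from Subtype.ext (hnat a)]
        rfl)
      rw [show (Spec.map ((pullback.fst pX pY).appLE W Vz e)) c = _ from this, IsAffineOpen.fromSpec_primeIdealOf]
    have hcz : c = hVz.primeIdealOf ⟨z, hzV⟩ := hVz.fromSpec.isOpenEmbedding.injective (by
      rw [IsAffineOpen.fromSpec_primeIdealOf]
      exact hWz.subset ⟨⟨hc1, hc2⟩, hc3⟩)
    have hgC : ∀ a, gC a ∈ Q ↔ ¬ IsUnit (germP.hom a) := fun a => by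
      have h1 : Q.comap gC = (hVz.primeIdealOf ⟨z, hzV⟩).asIdeal := congrArg PrimeSpectrum.asIdeal hcz
      rw [← Ideal.mem_comap, h1]
      exact not_not.symm.trans (IsLocalization.AtPrime.isUnit_to_map_iff
        ((pullback pX pY).presheaf.stalk z) (hVz.primeIdealOf ⟨z, hzV⟩).asIdeal a).symm.not
    -- every element is associated to a section of the chart
    have hass : ∀ d : C, ∃ (b : Γ(X, W)) (a : Γ(pullback pX pY, Vz)), IsUnit ((X.presheaf.germ W _ hxW).hom b) ∧
        π.hom ((X.presheaf.germ W _ hxW).hom b) * (d : (pullback pX pY).presheaf.stalk z) = germP.hom a := by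
      rintro ⟨d, hd⟩
      induction hd using Algebra.adjoin_induction with
      | mem t ht =>
        obtain ⟨a, rfl⟩ := ht
        exact ⟨1, a, by simp, by simp⟩
      | algebraMap o =>
        obtain ⟨⟨a, b⟩, hab⟩ := IsLocalization.surj (hW.primeIdealOf ⟨pullback.fst pX pY z, hxW⟩).asIdeal.primeCompl o
        refine ⟨b.1, fA.hom a, IsLocalization.map_units (X.presheaf.stalk (pullback.fst pX pY z)) b, ?_⟩
        rw [hnat, mul_comm]
        exact ((map_mul π.hom _ _).symm.trans (congrArg π.hom hab))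
      | add p r _ _ hp hr =>
        obtain ⟨b₁, a₁, hb₁, ha₁⟩ := hp
        obtain ⟨b₂, a₂, hb₂, ha₂⟩ := hr
        refine ⟨b₁ * b₂, fA.hom b₂ * a₁ + fA.hom b₁ * a₂, by rw [map_mul]; exact hb₁.mul hb₂, ?_⟩
        simp only [map_add, map_mul, hnat, ← ha₁, ← ha₂]
        ring
      | mul p r _ _ hp hr =>
        obtain ⟨b₁, a₁, hb₁, ha₁⟩ := hp
        obtain ⟨b₂, a₂, hb₂, ha₂⟩ := hr
        refine ⟨b₁ * b₂, a₁ * a₂, by rw [map_mul]; exact hb₁.mul hb₂, ?_⟩
        simp only [map_mul, ← ha₁, ← ha₂]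
        ring
    ext d
    obtain ⟨b, a, hb, hab⟩ := hass d
    have h1 : algebraMap _ C ((X.presheaf.germ W _ hxW).hom b) * d = gC a := Subtype.ext hab
    rw [← Ideal.unit_mul_mem_iff_mem Q (hb.map (algebraMap _ C)), h1, hgC, ← hab, IsUnit.mul_iff,
      and_iff_right (hb.map π.hom)]
    rfl
  obtain ⟨θ', hθl, hθπ', hθψ'⟩ := exists_local_section_of_fiber ψ' C hloc hfib
  let θ : (pullback pX pY).presheaf.stalk z ⟶ X.presheaf.stalk (pullback.fst pX pY z) := CommRingCat.ofHom θ'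
  have hπθ : π ≫ θ = 𝟙 _ := CommRingCat.hom_ext hθπ'
  have hθψ : θ ≫ CommRingCat.ofHom (algebraMap (X.presheaf.stalk (pullback.fst pX pY z)) K) = ψ :=
    CommRingCat.hom_ext hθψ'
  -- spreading out
  let s₀ : Spec (X.presheaf.stalk (pullback.fst pX pY z)) ⟶ Y :=
    Spec.map θ ≫ (pullback pX pY).fromSpecStalk z ≫ pullback.snd pX pY
  have hs₀q : s₀ ≫ pY = X.fromSpecStalk (pullback.fst pX pY z) ≫ pX := by
    rw [Category.assoc, Category.assoc, ← pullback.condition, ← Scheme.SpecMap_stalkMap_fromSpecStalk_assoc,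
      ← Spec.map_comp_assoc, hπθ, Spec.map_id, Category.id_comp]
  obtain ⟨W₁, hxW₁, s, hs₀, hsq⟩ := spread_out_of_isGermInjective' pX pY s₀ hs₀q
  have hW₁ : W ⊓ W₁ ≤ W₁ := inf_le_right
  refine ⟨W ⊓ W₁, X.homOfLE hW₁ ≫ s, ⟨hxW, hxW₁⟩, by rw [Category.assoc, hsq, Scheme.homOfLE_ι_assoc], ?_⟩
  have hle : U ⊓ (W ⊓ W₁) ≤ W := fun t ht => ht.2.1
  have : IsReduced ((U ⊓ (W ⊓ W₁) : X.Opens) : Scheme.{u}) := isReduced_of_isOpenImmersion (X.homOfLE hle)
  let l : Spec (CommRingCat.of K) ⟶ ((U ⊓ (W ⊓ W₁) : X.Opens) : Scheme.{u}) :=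
    IsOpenImmersion.lift (U ⊓ (W ⊓ W₁)).ι η (by
      rintro _ ⟨t, rfl⟩
      rw [Scheme.Opens.range_ι]
      exact ⟨hηU t, (hηsp t).mem_open (W ⊓ W₁).isOpen ⟨hxW, hxW₁⟩⟩)
  have hl : l ≫ (U ⊓ (W ⊓ W₁)).ι = η := IsOpenImmersion.lift_fac _ _ _
  have : IsDominant l := by
    refine ⟨?_⟩
    have hcomp : (X.homOfLE hle : _ → _) ∘ l = ηW := by
      have : l ≫ X.homOfLE hle = ηW := by rw [← cancel_mono W.ι, Category.assoc, Scheme.homOfLE_ι, hl, hηW]
      funext t; rw [Function.comp_apply, ← Scheme.Hom.comp_apply, this]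
    intro t
    rw [(X.homOfLE hle).isOpenEmbedding.isInducing.closure_eq_preimage_closure_image, Set.mem_preimage,
      ← Set.range_comp, hcomp]
    exact hηdom _
  refine ext_of_isDominant_of_isSeparated pY (by
    simp only [Category.assoc, ← hh, hsq, Scheme.homOfLE_ι_assoc]) l ?_
  have h1 : l ≫ X.homOfLE inf_le_left = gK := by
    rw [← cancel_mono U.ι, Category.assoc, Scheme.homOfLE_ι, hl, hgK]
  have h2 : (l ≫ X.homOfLE inf_le_right) ≫ X.homOfLE hW₁ =
      Spec.map (CommRingCat.ofHom (algebraMap (X.presheaf.stalk (pullback.fst pX pY z)) K)) ≫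
        W₁.fromSpecStalkOfMem (pullback.fst pX pY z) hxW₁ := by
    rw [← cancel_mono W₁.ι, Category.assoc, Category.assoc, Category.assoc, Scheme.homOfLE_ι, Scheme.homOfLE_ι,
      Scheme.Opens.fromSpecStalkOfMem_ι, hl]
  rw [← Category.assoc l (X.homOfLE inf_le_left), h1, ← Category.assoc l, ← Category.assoc (l ≫ _), h2,
    Category.assoc, ← hs₀, ← Category.assoc (Spec.map _), ← Spec.map_comp]
  calc _ = Spec.map ψ ≫ (pullback pX pY).fromSpecStalk z ≫ pullback.snd pX pY :=
        congrArg (fun φ => Spec.map φ ≫ (pullback pX pY).fromSpecStalk z ≫ pullback.snd pX pY) hθψ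
    _ = _ := by rw [← Category.assoc, hψ, Category.assoc, pullback.lift_snd]

end Groth.Agent.DVRDom
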