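import Mathlib

/-! A local quasi-finite birational algebra over a normal local domain is trivial (Zariski's main theorem). -/

namespace Groth.Agent.DVRDom

/-- If `S` is a local, quasi-finite, essentially finite type algebra over an integrally closed local domain `O`
(with local structure map), any `O`-algebra map of `S` to the fraction field factors through a local map to `O`. -/
theorem exists_local_section {O S K : Type*} [CommRing O] [IsDomain O] [IsIntegrallyClosed O] [IsLocalRing O]
    [CommRing S] [IsLocalRing S] [Algebra O S] [IsLocalHom (algebraMap O S)] [Algebra.EssFiniteType O S]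
    [Algebra.QuasiFinite O S] [Field K] [Algebra O K] [IsFractionRing O K] (ψ : S →ₐ[O] K) :
    ∃ θ : S →+* O, IsLocalHom θ ∧ θ.comp (algebraMap O S) = RingHom.id O ∧
      (algebraMap O K).comp θ = ψ.toRingHom := by
  have hker : ∀ s, ψ s = 0 → s ∈ IsLocalRing.maximalIdeal S := fun s hs hu =>
    (hu.map ψ).ne_zero hs
  have hinj := IsFractionRing.injective O K
  -- an element with value `o` is a unit iff `o` is
  have hunit : ∀ s o, ψ s = algebraMap O K o → IsUnit o → IsUnit s := fun s o h ho => by
    by_contra hs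
    have h1 : s - algebraMap O S o ∈ IsLocalRing.maximalIdeal S := hker _ (by simp [h])
    have h2 : algebraMap O S o ∈ IsLocalRing.maximalIdeal S := by
      simpa using (IsLocalRing.maximalIdeal S).sub_mem (show s ∈ IsLocalRing.maximalIdeal S from hs) h1
    exact h2 (ho.map _)
  have hunit' : ∀ s o, ψ s = algebraMap O K o → IsUnit s → IsUnit o := fun s o h hs => by
    by_contra ho
    have h1 : s - algebraMap O S o ∈ IsLocalRing.maximalIdeal S := hker _ (by simp [h])
    have h2 : algebraMap O S o ∈ IsLocalRing.maximalIdeal S := fun hu =>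
      ho (isUnit_of_map_unit (algebraMap O S) o hu)
    exact (show s ∈ IsLocalRing.maximalIdeal S by
      simpa using (IsLocalRing.maximalIdeal S).add_mem h1 h2) hs
  let C := Algebra.EssFiniteType.subalgebra O S
  let φ : C →ₐ[O] K := ψ.comp C.val
  let g : C →ₐ[O] φ.range := φ.rangeRestrict
  have hg : Function.Surjective g := AlgHom.rangeRestrict_surjective φ
  have : Algebra.FiniteType O φ.range := .of_surjective g hg
  let P : Ideal C := (IsLocalRing.maximalIdeal S).comap C.val
  have : P.IsPrime := Ideal.IsPrime.comap _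
  have hkP : RingHom.ker g ≤ P := fun c hc => hker _ (congrArg Subtype.val (RingHom.mem_ker.mp hc))
  let P' : Ideal φ.range := P.map g
  have : P'.IsPrime := Ideal.map_isPrime_of_surjective hg hkP
  have hPP' : ∀ c, g c ∈ P' → c ∈ P := fun c hc => by
    obtain ⟨d, hd, hdc⟩ := (Ideal.mem_map_iff_of_surjective g hg).mp hc
    have := P.sub_mem hd (hkP (RingHom.mem_ker.mpr (show g (d - c) = 0 by rw [map_sub, hdc, sub_self])))
    simpa using this
  let G : C →ₐ[O] Localization.AtPrime P' := (IsScalarTower.toAlgHom O _ _).comp g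
  have hG : ∀ c : Algebra.EssFiniteType.submonoid O S, IsUnit (G c) := fun c =>
    IsLocalization.map_units (Localization.AtPrime P') (⟨g c, fun h => hPP' _ h c.2⟩ : P'.primeCompl)
  let F : S →ₐ[O] Localization.AtPrime P' :=
    IsLocalization.liftAlgHom (M := Algebra.EssFiniteType.submonoid O S) (S := S) (f := G) hG
  have hF : ∀ c : C, F (c : S) = algebraMap φ.range (Localization.AtPrime P') (g c) := fun c =>
    IsLocalization.lift_eq _ c
  have hFs : Function.Surjective F := by
    intro z
    obtain ⟨b, ⟨t, ht⟩, rfl⟩ := IsLocalization.exists_mk'_eq P'.primeCompl z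
    obtain ⟨c, rfl⟩ := hg b
    obtain ⟨d, rfl⟩ := hg t
    have hd : IsUnit (d : S) := by
      by_contra hd
      exact ht (Ideal.mem_map_of_mem g (show d ∈ P from hd))
    obtain ⟨u, hu⟩ := hd
    refine ⟨(c : S) * ↑u⁻¹, IsLocalization.eq_mk'_iff_mul_eq.mpr ?_⟩
    change F _ * algebraMap _ _ (g d) = _
    rw [← hF, ← map_mul, ← hu, Units.inv_mul_cancel_right, hF]
  have : Algebra.QuasiFiniteAt O P' := Algebra.QuasiFinite.of_surjective_algHom F hFs
  -- Zariski's main theorem
  obtain ⟨r, hr, hri, hx⟩ := Algebra.zariskisMainProperty_iff.mp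
    (Algebra.ZariskisMainProperty.of_finiteType (R := O) P')
  obtain ⟨o, ho⟩ := IsIntegrallyClosed.isIntegral_iff.mp (hri.map φ.range.val)
  obtain ⟨rc, rfl⟩ := hg r
  have hou : IsUnit o := hunit' (rc : S) o ho.symm (by
    by_contra h
    exact hr (Ideal.mem_map_of_mem g (show rc ∈ P from h)))
  have hC : ∀ c : C, ∃ a, algebraMap O K a = ψ (c : S) := fun c => by
    obtain ⟨m, hm⟩ := hx (g c)
    obtain ⟨a, ha⟩ := IsIntegrallyClosed.isIntegral_iff.mp (hm.map φ.range.val)
    refine ⟨↑(hou.unit⁻¹ ^ m) * a, ?_⟩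
    rw [map_mul, ha, map_mul, map_pow, ← ho, ← mul_assoc, ← map_pow, ← map_mul, Units.val_pow_eq_pow_val,
      ← mul_pow, IsUnit.val_inv_mul, one_pow, map_one, one_mul]
    rfl
  have hS : ∀ s, ∃ a, algebraMap O K a = ψ s := fun s => by
    obtain ⟨⟨c, t⟩, hct⟩ := IsLocalization.surj (Algebra.EssFiniteType.submonoid O S) s
    obtain ⟨a, ha⟩ := hC c
    obtain ⟨b, hb⟩ := hC t.1
    have hbu : IsUnit b := hunit' _ b hb.symm t.2
    refine ⟨a * ↑hbu.unit⁻¹, (hbu.map (algebraMap O K)).mul_left_inj.mp ?_⟩
    rw [← map_mul, mul_assoc, IsUnit.val_inv_mul, mul_one, ha, hb, ← map_mul]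
    exact congrArg ψ hct.symm
  choose θ hθ using hS
  let Θ : S →+* O :=
    { toFun := θ
      map_one' := hinj (by rw [hθ, map_one, map_one])
      map_mul' := fun a b => hinj (by rw [map_mul, hθ, hθ, hθ, map_mul])
      map_zero' := hinj (by rw [hθ, map_zero, map_zero])
      map_add' := fun a b => hinj (by rw [map_add, hθ, hθ, hθ, map_add]) }
  refine ⟨Θ, ⟨fun s hs => hunit s _ (hθ s).symm hs⟩, RingHom.ext fun o => hinj ?_, RingHom.ext hθ⟩
  exact (hθ _).trans (ψ.commutes o)

end Groth.Agent.DVRDom
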