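import Groth.Agent.DVRDom.Section
import Groth.Agent.DVRDom.ZMT

/-! Extending a section of a separated quasi-finite morphism to a normal point. -/

universe u

open CategoryTheory CategoryTheory.Limits AlgebraicGeometry

namespace Groth.Agent.DVRDom

theorem exists_extension_of_quasiFinite {X Y : Scheme.{u}} [IsLocallyNoetherian X] (q : Y ⟶ X)
    [LocallyOfFiniteType q] [IsSeparated q] [LocallyQuasiFinite q] (U : X.Opens) (hU : Dense (U : Set X))
    (h : (U : Scheme.{u}) ⟶ Y) (hh : h ≫ q = U.ι) (x : X) (hxU : x ∉ U) [IsDomain ↑(X.presheaf.stalk x)]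
    (hx : IsIntegrallyClosed ↑(X.presheaf.stalk x)) (R : Type u) [CommRing R] [IsDomain R] [IsLocalRing R]
    (u : Spec (CommRingCat.of R) ⟶ X) (ub : Spec (CommRingCat.of (FractionRing R)) ⟶ (U : Scheme.{u}))
    (h₁ : Spec (CommRingCat.of R) ⟶ Y) (hu : u (IsLocalRing.closedPoint R) = x)
    (hub : ub ≫ U.ι = Spec.map (CommRingCat.ofHom (algebraMap R (FractionRing R))) ≫ u)
    (hq : h₁ ≫ q = u) (hg : Spec.map (CommRingCat.ofHom (algebraMap R (FractionRing R))) ≫ h₁ = ub ≫ h) :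
    ∃ (U' : X.Opens) (hUU' : U ≤ U') (h' : (U' : Scheme.{u}) ⟶ Y),
        x ∈ U' ∧ h' ≫ q = U'.ι ∧ X.homOfLE hUU' ≫ h' = h := by
  obtain ⟨y₀, hy₁⟩ : ∃ y₀, h₁ (IsLocalRing.closedPoint R) = y₀ := ⟨_, rfl⟩
  have hy₀ : q y₀ = x := by rw [← hy₁, ← Scheme.Hom.comp_apply, hq, hu]
  subst hy₀
  have hOK := IsFractionRing.injective (X.presheaf.stalk (q y₀)) (FractionRing (X.presheaf.stalk (q y₀)))
  let K := FractionRing (X.presheaf.stalk (q y₀))
  -- an integral affine neighbourhood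
  obtain ⟨W, hxW, hW, hWinj⟩ : ∃ (W : X.Opens) (hxW : q y₀ ∈ W), IsAffineOpen W ∧
      Function.Injective (X.presheaf.germ W (q y₀) hxW) := X.exists_germ_injective (q y₀)
  have : IsDomain Γ(X, W) := hWinj.isDomain
  have : IsIntegral (W : Scheme.{u}) := by
    have : IsDomain (CommRingCat.of Γ(X, W)) := ‹_›
    have : Nonempty (W : Scheme.{u}) := ⟨⟨q y₀, hxW⟩⟩
    exact isIntegral_of_isOpenImmersion hW.isoSpec.hom
  let η : Spec (CommRingCat.of K) ⟶ X :=
    Spec.map (CommRingCat.ofHom (algebraMap (X.presheaf.stalk (q y₀)) K)) ≫ X.fromSpecStalk (q y₀)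
  have hηsp : ∀ z, η z ⤳ q y₀ := fun z => by
    have : η z ∈ Set.range (X.fromSpecStalk (q y₀)) := ⟨_, (Scheme.Hom.comp_apply _ _ z).symm⟩
    rwa [Scheme.range_fromSpecStalk] at this
  let ηW : Spec (CommRingCat.of K) ⟶ (W : Scheme.{u}) :=
    Spec.map (CommRingCat.ofHom (algebraMap (X.presheaf.stalk (q y₀)) K)) ≫ W.fromSpecStalkOfMem (q y₀) hxW
  have hηW : ηW ≫ W.ι = η := by simp [ηW, η]
  have hηdom : DenseRange ηW := by
    have h2 : ηW ≫ hW.isoSpec.hom =
        Spec.map (X.presheaf.germ W (q y₀) hxW ≫ CommRingCat.ofHom (algebraMap (X.presheaf.stalk (q y₀)) K)) := by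
      simp [ηW, IsAffineOpen.isoSpec_hom, Spec.map_comp]
      rfl
    have h3 : DenseRange (ηW ≫ hW.isoSpec.hom) := by
      rw [h2]
      exact PrimeSpectrum.denseRange_comap_iff_ker_le_nilRadical _ |>.mpr (fun a ha => by
        have : a = 0 := hWinj (hOK ((RingHom.mem_ker.mp ha).trans (by simp)))
        rw [this]; exact Ideal.zero_mem _)
    have hc : Continuous (hW.isoSpec.inv) := hW.isoSpec.inv.continuous
    have hs : Function.Surjective (hW.isoSpec.inv) := hW.isoSpec.inv.surjective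
    have h4 := hs.denseRange.comp h3 hc
    have : (hW.isoSpec.inv : _ → _) ∘ (ηW ≫ hW.isoSpec.hom) = ηW := by
      funext z
      rw [Function.comp_apply, ← Scheme.Hom.comp_apply, Category.assoc, Iso.hom_inv_id, Category.comp_id]
    rwa [this] at h4
  have hηU : ∀ z, η z ∈ U := fun z => by
    have hUW : (W.ι ⁻¹ᵁ U : Set W).Nonempty := by
      obtain ⟨w, hwW, hwU⟩ := hU.inter_open_nonempty W W.isOpen ⟨q y₀, hxW⟩
      exact ⟨⟨w, hwW⟩, hwU⟩
    obtain ⟨z', hz'⟩ := hηdom.exists_mem_open (W.ι ⁻¹ᵁ U).isOpen hUW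
    have : z = z' := PrimeSpectrum.ext ((Ideal.eq_bot_or_top z.asIdeal).resolve_right z.isPrime.ne_top |>.trans
      ((Ideal.eq_bot_or_top z'.asIdeal).resolve_right z'.isPrime.ne_top).symm)
    rw [← hηW, this, Scheme.Hom.comp_apply]
    exact hz'
  let gK : Spec (CommRingCat.of K) ⟶ (U : Scheme.{u}) := IsOpenImmersion.lift U.ι η (by
    rintro _ ⟨z, rfl⟩; rw [Scheme.Opens.range_ι]; exact hηU z)
  have hgK : gK ≫ U.ι = η := IsOpenImmersion.lift_fac _ _ _
  let z₀ : Spec (CommRingCat.of K) := IsLocalRing.closedPoint K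
  let z : Spec (CommRingCat.of (FractionRing R)) := IsLocalRing.closedPoint (FractionRing R)
  -- the point of `U` under the given ring
  have hwy : h (ub z) ⤳ y₀ := by
    rw [← Scheme.Hom.comp_apply, ← hg, Scheme.Hom.comp_apply, ← hy₁]
    exact (IsLocalRing.specializes_closedPoint _).map h₁.continuous
  have hwx : (ub z).1 ⤳ q y₀ := by
    have := hwy.map q.continuous
    rwa [← Scheme.Hom.comp_apply, hh] at this
  have hgw : gK z₀ ⤳ ub z := by
    rw [← U.ι.isOpenEmbedding.isInducing.specializes_iff, ← Scheme.Hom.comp_apply, hgK]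
    -- the generic point of the local ring specializes to all its points
    have hr : U.ι (ub z) ∈ Set.range (X.fromSpecStalk (q y₀)) := by
      rw [Scheme.range_fromSpecStalk]; exact hwx
    obtain ⟨p, hp⟩ := hr
    rw [← hp, Scheme.Hom.comp_apply]
    refine ((PrimeSpectrum.le_iff_specializes _ _).mp ?_).map (X.fromSpecStalk _).continuous
    change Ideal.comap _ z₀.asIdeal ≤ p.asIdeal
    intro a ha
    have : algebraMap (X.presheaf.stalk (q y₀)) K a = 0 := by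
      by_contra hne
      exact z₀.isPrime.ne_top (Ideal.eq_top_of_isUnit_mem _ ha (Ne.isUnit hne))
    rw [show a = 0 from hOK (this.trans (map_zero _).symm)]
    exact Ideal.zero_mem _
  let yη : Spec (CommRingCat.of K) ⟶ Y := gK ≫ h
  have hyη : yη z₀ ⤳ y₀ := (hgw.map h.continuous).trans hwy
  let ψ : Y.presheaf.stalk y₀ ⟶ CommRingCat.of K :=
    Y.presheaf.stalkSpecializes hyη ≫ Scheme.stalkClosedPointTo yη
  have hψ : Spec.map ψ ≫ Y.fromSpecStalk y₀ = yη := by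
    rw [Spec.map_comp, Category.assoc, Scheme.SpecMap_stalkSpecializes_fromSpecStalk,
      Scheme.Spec_stalkClosedPointTo_fromSpecStalk]
  let π : X.presheaf.stalk (q y₀) ⟶ Y.presheaf.stalk y₀ := q.stalkMap y₀
  have hψπ : π ≫ ψ = CommRingCat.ofHom (algebraMap (X.presheaf.stalk (q y₀)) K) := spec_map_eq_iff _ _ (by
    rw [Spec.map_comp, Category.assoc, Scheme.SpecMap_stalkMap_fromSpecStalk, ← Category.assoc, hψ,
      Category.assoc, hh, hgK])
  let := π.hom.toAlgebra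
  have : Algebra.EssFiniteType (X.presheaf.stalk (q y₀)) (Y.presheaf.stalk y₀) :=
    LocallyOfFiniteType.stalkMap (f := q) y₀
  have : Algebra.QuasiFinite (X.presheaf.stalk (q y₀)) (Y.presheaf.stalk y₀) := q.quasiFiniteAt y₀
  have : IsLocalHom (algebraMap (X.presheaf.stalk (q y₀)) (Y.presheaf.stalk y₀)) :=
    (inferInstance : IsLocalHom (q.stalkMap y₀).hom)
  have : IsIntegrallyClosed (X.presheaf.stalk (q y₀)) := hx
  let ψ' : Y.presheaf.stalk y₀ →ₐ[X.presheaf.stalk (q y₀)] K :=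
    { ψ.hom with
      commutes' := fun o =>
        congrArg (fun φ : X.presheaf.stalk (q y₀) ⟶ CommRingCat.of K => φ.hom o) hψπ }
  obtain ⟨θ', hθl, hθπ', hθψ'⟩ := exists_local_section ψ'
  let θ : Y.presheaf.stalk y₀ ⟶ X.presheaf.stalk (q y₀) := CommRingCat.ofHom θ'
  have : IsLocalHom θ.hom := hθl
  have hπθ : π ≫ θ = 𝟙 _ := CommRingCat.hom_ext hθπ'
  have hθψ : θ ≫ CommRingCat.ofHom (algebraMap (X.presheaf.stalk (q y₀)) K) = ψ := CommRingCat.hom_ext hθψ'
  -- spreading out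
  let s₀ : Spec (X.presheaf.stalk (q y₀)) ⟶ Y := Spec.map θ ≫ Y.fromSpecStalk y₀
  have hs₀q : s₀ ≫ q = X.fromSpecStalk (q y₀) ≫ 𝟙 X := by
    rw [Category.comp_id, Category.assoc, ← Scheme.SpecMap_stalkMap_fromSpecStalk, ← Spec.map_comp_assoc, hπθ,
      Spec.map_id, Category.id_comp]
  obtain ⟨W₁, hxW₁, s, hs₀, hsq⟩ := spread_out_of_isGermInjective' (𝟙 X) q s₀ hs₀q
  rw [Category.comp_id] at hsq
  let W₃ : X.Opens := W ⊓ W₁
  have hxW₃ : q y₀ ∈ W₃ := ⟨hxW, hxW₁⟩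
  have hW₃₁ : W₃ ≤ W₁ := inf_le_right
  let s₃ : (W₃ : Scheme.{u}) ⟶ Y := X.homOfLE hW₃₁ ≫ s
  have hagree : X.homOfLE (inf_le_left : U ⊓ W₃ ≤ U) ≫ h = X.homOfLE (inf_le_right : U ⊓ W₃ ≤ W₃) ≫ s₃ := by
    have hle : U ⊓ W₃ ≤ W := fun z hz => hz.2.1
    have : IsReduced ((U ⊓ W₃ : X.Opens) : Scheme.{u}) := isReduced_of_isOpenImmersion (X.homOfLE hle)
    let l : Spec (CommRingCat.of K) ⟶ ((U ⊓ W₃ : X.Opens) : Scheme.{u}) := IsOpenImmersion.lift (U ⊓ W₃).ι η (by
      rintro _ ⟨z, rfl⟩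
      rw [Scheme.Opens.range_ι]
      exact ⟨hηU z, (hηsp z).mem_open W₃.isOpen hxW₃⟩)
    have hl : l ≫ (U ⊓ W₃).ι = η := IsOpenImmersion.lift_fac _ _ _
    have : IsDominant l := by
      refine ⟨?_⟩
      have hcomp : (X.homOfLE hle : _ → _) ∘ l = ηW := by
        have : l ≫ X.homOfLE hle = ηW := by rw [← cancel_mono W.ι, Category.assoc, Scheme.homOfLE_ι, hl, hηW]
        funext z; rw [Function.comp_apply, ← Scheme.Hom.comp_apply, this]
      intro z
      rw [(X.homOfLE hle).isOpenEmbedding.isInducing.closure_eq_preimage_closure_image, Set.mem_preimage,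
        ← Set.range_comp, hcomp]
      exact hηdom _
    have h1 : l ≫ X.homOfLE inf_le_left = gK := by
      rw [← cancel_mono U.ι, Category.assoc, Scheme.homOfLE_ι, hl, hgK]
    have h2 : (l ≫ X.homOfLE inf_le_right) ≫ X.homOfLE hW₃₁ =
        Spec.map (CommRingCat.ofHom (algebraMap (X.presheaf.stalk (q y₀)) K)) ≫ W₁.fromSpecStalkOfMem (q y₀) hxW₁ := by
      rw [← cancel_mono W₁.ι, Category.assoc, Category.assoc, Category.assoc, Scheme.homOfLE_ι, Scheme.homOfLE_ι,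
        Scheme.Opens.fromSpecStalkOfMem_ι, hl]
    refine ext_of_isDominant_of_isSeparated q (by
      simp only [Category.assoc, s₃, hh, hsq, Scheme.homOfLE_ι]) l ?_
    rw [← Category.assoc, h1]
    change gK ≫ h = l ≫ X.homOfLE inf_le_right ≫ X.homOfLE hW₃₁ ≫ s
    rw [← Category.assoc l, ← Category.assoc (l ≫ _), h2,
      Category.assoc, ← hs₀, ← Category.assoc (Spec.map _), ← Spec.map_comp]
    exact hψ.symm.trans (congrArg (fun φ => Spec.map φ ≫ Y.fromSpecStalk y₀) hθψ.symm)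
  obtain ⟨h', hl', hr'⟩ := exists_glue_sup U W₃ h s₃ hagree
  refine ⟨U ⊔ W₃, le_sup_left, h', Or.inr hxW₃, ?_, hl'⟩
  · obtain ⟨H', hH1, hH2⟩ := exists_glue_sup U W₃ U.ι W₃.ι (by simp)
    refine Scheme.Cover.hom_ext (Scheme.openCoverOfIsOpenCover _
      (fun b : Bool => (U ⊔ W₃).ι ⁻¹ᵁ (bif b then U else W₃)) ?_) _ _ fun b => ?_
    · refine TopologicalSpace.IsOpenCover.mk (top_le_iff.mp fun z _ => ?_)
      rw [TopologicalSpace.Opens.mem_iSup]
      rcases (z.2 : z.1 ∈ U ∨ z.1 ∈ W₃) with hz | hz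
      · exact ⟨true, hz⟩
      · exact ⟨false, hz⟩
    · change ((U ⊔ W₃).ι ⁻¹ᵁ (bif b then U else W₃)).ι ≫ h' ≫ q =
        ((U ⊔ W₃).ι ⁻¹ᵁ (bif b then U else W₃)).ι ≫ (U ⊔ W₃).ι
      cases b <;> dsimp only [cond]
      · have e : ((U ⊔ W₃).ι ⁻¹ᵁ W₃).ι = ((U ⊔ W₃).ι ∣_ W₃) ≫ X.homOfLE le_sup_right := by
          rw [← cancel_mono (U ⊔ W₃).ι, Category.assoc, Scheme.homOfLE_ι, morphismRestrict_ι]
        rw [e, Category.assoc, Category.assoc, reassoc_of% hr', Scheme.homOfLE_ι]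
        simp [s₃, hsq]
      · have e : ((U ⊔ W₃).ι ⁻¹ᵁ U).ι = ((U ⊔ W₃).ι ∣_ U) ≫ X.homOfLE le_sup_left := by
          rw [← cancel_mono (U ⊔ W₃).ι, Category.assoc, Scheme.homOfLE_ι, morphismRestrict_ι]
        rw [e, Category.assoc, Category.assoc, reassoc_of% hl', Scheme.homOfLE_ι, hh]

end Groth.Agent.DVRDom
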